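import Cfsg.Agent.Lib.Blocks.ThreeExtra.Kernel
import Cfsg.Agent.Lib.CharTheory.Brauer
import Cfsg.Agent.Lib.CharTheory.PSection

/-!
# The principal block of a group with central `z`
-/

namespace CfsgLib.Blocks.ThreeExtra

open Cfsg Subgroup CfsgLib.CharTheory CfsgLib.Blocks
open scoped ComplexConjugate

set_option linter.unusedSectionVars false
set_option linter.style.haveILetI false

universe u v

variable {K : Type u} [Group K] [Fintype K] {M : Ideal AlgInt}

/-- Representatives of the classes of outside elements, each conjugate to its inverse. -/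
structure Reps (P : Sylow 3 K) (z : K) {ι : Type v} (x : ι → K) : Prop where
  out : ∀ r, Out P z (x r)
  cover : ∀ u, Out P z u → ∃ r, IsConj u (x r)
  sep : ∀ r s, IsConj (x r) (x s) → r = s
  inv : ∀ u, Out P z u → IsConj u u⁻¹

/-- The root of unity of a central element on an irreducible character. -/
noncomputable def zeta (z : K) (ψ : IrrCharacter K) : ℂ := (ψ : K → ℂ) z / (ψ : K → ℂ) 1

open scoped Classical in
/-- The characters of the block trivial on `z`. -/
noncomputable def infl (M : Ideal AlgInt) (z : K) : Finset (IrrCharacter K) :=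
  (bset (principalBlock M K)).filter fun ψ => zeta z ψ = 1

open scoped Classical in
/-- The characters of the block with a given central root. -/
noncomputable def om (M : Ideal AlgInt) (z : K) (w : ℂ) : Finset (IrrCharacter K) :=
  (bset (principalBlock M K)).filter fun ψ => zeta z ψ = w

open scoped Classical in
/-- The regular elements. -/
noncomputable def regs (K : Type u) [Group K] [Fintype K] : Finset K :=
  Finset.univ.filter fun y => ¬ 3 ∣ orderOf y

/-- The pairing on regular elements. -/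
noncomputable def rho (f g : K → ℂ) : ℂ := ∑ y ∈ regs K, f y * conj (g y)

/-- An element whose `3`-part is not central. -/
def Outer (z h : K) : Prop :=
  3 ∣ orderOf h ∧ 3 ∣ orderOf (z * h) ∧ 3 ∣ orderOf (z⁻¹ * h)

theorem mem_regs {y : K} : y ∈ regs K ↔ ¬ 3 ∣ orderOf y := by simp [regs]

/-! ### cube roots of unity -/

section roots

variable {w : ℂ} (hw : IsPrimitiveRoot w 3)

include hw

theorem w_sum : 1 + w + w ^ 2 = 0 := by
  have h := hw.geom_sum_eq_zero (by norm_num)
  simpa [Finset.sum_range_succ, add_assoc] using h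

theorem w_conj : conj w = w ^ 2 := by
  have h3 : w ^ 3 = 1 := hw.pow_eq_one
  have h1 : w * conj w = 1 := by
    rw [Complex.mul_conj, Complex.normSq_eq_norm_sq,
      Complex.norm_eq_one_of_pow_eq_one h3 (by norm_num)]
    norm_num
  calc conj w = w ^ 3 * conj w := by rw [h3, one_mul]
    _ = w ^ 2 * (w * conj w) := by ring
    _ = w ^ 2 := by rw [h1, mul_one]

theorem w_ne_one : w ≠ 1 := hw.ne_one (by norm_num)

theorem w_sq_ne_one : w ^ 2 ≠ 1 := hw.pow_ne_one_of_pos_of_lt (by norm_num) (by norm_num)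

theorem w_sq_ne : w ^ 2 ≠ w := fun h => w_ne_one hw (by
  have h0 : w ≠ 0 := hw.ne_zero (by norm_num)
  exact mul_left_cancel₀ h0 (by rw [← sq, h, mul_one]))

end roots

/-- A rational integer in the local ideal is divisible by three. -/
theorem three_dvd_of_res (hM : IsPModular 3 M) {n : ℤ} (h : res hM (n : ℂ) = 0) : 3 ∣ n := by
  haveI := res_charP hM
  rw [res_intCast' hM] at h
  exact (CharP.intCast_eq_zero_iff (AlgInt ⧸ M) 3 n).1 h

/-- The regular part of a character of positive degree pairs with the trivial character. -/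
theorem regS_one_ne (hM : IsPModular 3 M) {χ : IrrCharacter K}
    (hχ : χ ∈ principalBlock M K) : ∑ y ∈ regs K, (χ : K → ℂ) y ≠ 0 := by
  classical
  intro h0
  have hB := principalBlock_isPBlock (M := M) (G := K)
  obtain ⟨q, hq, -, hq1, hq2, -⟩ := exists_int_proj hM hB (oneIrr_mem hM (G := K)) hχ
  have hreg : regS 3 (oneIrr K : K → ℂ) (χ : K → ℂ) = 0 := by
    rw [regS_comm]
    refine Eq.trans ?_ h0
    rw [regS, regs, Finset.sum_filter]
    refine Finset.sum_congr rfl fun y _ => ?_
    show regFn 3 (fun _ : K => (1 : ℂ)) y * _ = _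
    simp only [regFn]
    split_ifs <;> simp
  rw [hreg, mul_zero] at hq
  have hq0 : q = 0 := by
    have hne : (Nat.card K : ℂ) ≠ 0 := Nat.cast_ne_zero.2 Nat.card_pos.ne'
    exact_mod_cast (mul_eq_zero.1 hq.symm).resolve_left hne
  have hmin : dv 3 (oneIrr K : K → ℂ) = minDv 3 (principalBlock M K) := by
    have h1 : dv 3 (oneIrr K : K → ℂ) = 0 := by
      rw [dv, show charDegree (oneIrr K : K → ℂ) = 1 by simp [charDegree, oneIrr],
        Nat.factorization_one]; rfl
    have h2 := minDv_le (p := 3) (oneIrr_mem hM (G := K))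
    omega
  rcases (minDv_le (p := 3) hχ).eq_or_lt with h | h
  · exact hq1 hmin h.symm (hq0 ▸ dvd_zero _)
  · exact (hq2 hmin h).1 hq0

section center

variable {P : Sylow 3 K} {z : K} {ι : Type v} [Fintype ι] {x : ι → K} (S : Setup P z)
  (hzc : z ∈ Subgroup.center K) (hx : Reps P z x)

include S hzc

theorem zeta_mul (ψ : IrrCharacter K) (h : K) :
    (ψ : K → ℂ) (z * h) = zeta z ψ * (ψ : K → ℂ) h := central_value_mul hzc ψ h

theorem zeta_cube (ψ : IrrCharacter K) : zeta z ψ ^ 3 = 1 := by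
  have h3 : z * (z * (z * 1)) = 1 := by
    rw [mul_one, ← sq, ← pow_succ']; exact S.z_pow
  have h1 : (ψ : K → ℂ) (z * (z * (z * 1))) = (ψ : K → ℂ) 1 := by rw [h3]
  rw [zeta_mul S hzc, zeta_mul S hzc, zeta_mul S hzc] at h1
  refine mul_right_cancel₀ (irr_ne_zero ψ.2) ?_
  linear_combination h1

theorem zeta_inv_mul (ψ : IrrCharacter K) (h : K) :
    (ψ : K → ℂ) (z⁻¹ * h) = zeta z ψ ^ 2 * (ψ : K → ℂ) h := by
  rw [show z⁻¹ * h = z * (z * h) by
    rw [← mul_assoc, show z * z = z⁻¹ from eq_inv_of_mul_eq_one_left (by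
      rw [← sq, ← pow_succ]; exact S.z_pow)], zeta_mul S hzc, zeta_mul S hzc]
  ring

theorem zeta_cases {w : ℂ} (hw : IsPrimitiveRoot w 3) (ψ : IrrCharacter K) :
    zeta z ψ = 1 ∨ zeta z ψ = w ∨ zeta z ψ = w ^ 2 := by
  obtain ⟨i, hi, e⟩ := hw.eq_pow_of_pow_eq_one (zeta_cube S hzc ψ)
  rw [← e]
  interval_cases i
  · simp
  · simp
  · simp

theorem zeta_conj (ψ : IrrCharacter K) : zeta z (conjIrr ψ) = conj (zeta z ψ) := by
  rw [zeta, zeta, conjIrr_apply, conjIrr_apply, map_div₀]

theorem singular_mul {y : K} (hy : ¬ 3 ∣ orderOf y) {a : K} (ha : a ∈ zpowers z) (ha1 : a ≠ 1) :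
    3 ∣ orderOf (a * y) := by
  have hac : a ∈ Subgroup.center K := (Subgroup.zpowers_le.2 hzc) ha
  have hord : orderOf a = 3 ^ 1 := by
    rcases mem_zpowers_cases S.z_pow ha with rfl | rfl | rfl
    · exact absurd rfl ha1
    · rw [S.order_z, pow_one]
    · rw [orderOf_inv, S.order_z, pow_one]
  rw [← (show Commute y a from Subgroup.mem_center_iff.1 hac y).eq]
  exact orderOf_mul_pPart (Subgroup.mem_center_iff.1 hac y) hy hord Nat.prime_three ha1

theorem sum_split (F : K → ℂ) :
    ∑ h, F h = (∑ y ∈ regs K, (F y + F (z * y) + F (z⁻¹ * y))) +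
      ∑ h ∈ (Finset.univ : Finset K), (if 3 ∣ orderOf h ∧ 3 ∣ orderOf (z * h) ∧
        3 ∣ orderOf (z⁻¹ * h) then F h else 0) := by
  classical
  have hzz : z * z = z⁻¹ := eq_inv_of_mul_eq_one_left (by rw [← sq, ← pow_succ]; exact S.z_pow)
  have hzi : z⁻¹ * z⁻¹ = z := by rw [← _root_.mul_inv_rev, hzz, inv_inv]
  have hone : ∀ h : K, F h = (if ¬ 3 ∣ orderOf h then F h else 0) +
      (if ¬ 3 ∣ orderOf (z⁻¹ * h) then F h else 0) + (if ¬ 3 ∣ orderOf (z * h) then F h else 0) +
      (if 3 ∣ orderOf h ∧ 3 ∣ orderOf (z * h) ∧ 3 ∣ orderOf (z⁻¹ * h) then F h else 0) := by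
    intro h
    by_cases h1 : 3 ∣ orderOf h
    · by_cases h2 : 3 ∣ orderOf (z⁻¹ * h)
      · by_cases h3 : 3 ∣ orderOf (z * h)
        · simp [h1, h2, h3]
        · simp [h1, h2, h3]
      · have h3 : 3 ∣ orderOf (z * h) := by
          rw [show z * h = z⁻¹ * (z⁻¹ * h) * 1 by rw [mul_one, ← mul_assoc z⁻¹ z⁻¹, hzi]]
          rw [mul_one]
          exact singular_mul S hzc h2 (inv_mem (mem_zpowers z)) (inv_ne_one.2 S.ne)
        simp [h1, h2, h3]
    · have h2 := singular_mul S hzc h1 (mem_zpowers z) S.ne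
      have h3 := singular_mul S hzc h1 (inv_mem (mem_zpowers z)) (inv_ne_one.2 S.ne)
      simp [h1, h2, h3]
  have e1 : ∀ a : K, ∑ h, (if ¬ 3 ∣ orderOf (a * h) then F h else 0) =
      ∑ y ∈ regs K, F (a⁻¹ * y) := by
    intro a
    rw [regs, Finset.sum_filter]
    exact Fintype.sum_equiv (Equiv.mulLeft a) _ _ fun h => by simp
  calc ∑ h, F h = ∑ h, _ := Finset.sum_congr rfl fun h _ => hone h
    _ = _ := by
      rw [Finset.sum_add_distrib, Finset.sum_add_distrib, Finset.sum_add_distrib, e1, e1,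
        Finset.sum_add_distrib, Finset.sum_add_distrib, inv_inv]
      congr 3
      rw [regs, Finset.sum_filter]

include hx

/-- At an outer element the characters of the block take an outside value. -/
theorem outer_value (hM : IsPModular 3 M) {h : K} (hh : Outer z h) :
    ∃ r, ∀ ψ ∈ principalBlock M K, (ψ : K → ℂ) h = (ψ : K → ℂ) (x r) := by
  obtain ⟨u, y, he, hc, hu1, hu, hy⟩ := exists_part hM hh.1
  rcases S.elt_cases hu hu1 with e | e | ⟨v, hv, e⟩
  · have e' := (isConj_comm.1 e).eq_of_left_mem_center hzc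
    refine absurd (show 3 ∣ orderOf y from ?_) hy
    have := hh.2.2
    rwa [← he, ← e', inv_mul_cancel_left] at this
  · have e' := (isConj_comm.1 e).eq_of_left_mem_center (inv_mem hzc)
    refine absurd (show 3 ∣ orderOf y from ?_) hy
    have := hh.2.1
    rwa [← he, ← e', mul_inv_cancel_left] at this
  obtain ⟨r, hr⟩ := hx.cover v hv
  obtain ⟨c, hcc⟩ := isConj_iff.1 (e.trans hr)
  refine ⟨r, fun ψ hψ => ?_⟩
  rw [← irr_isClassFun ψ h c, show c * h * c⁻¹ = x r * (c * y * c⁻¹) by rw [← hcc, ← he]; group]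
  refine S.out_const hM (hx.out r) ?_ ?_ hψ
  · have := hc.map (MulAut.conj c).toMonoidHom
    simpa [hcc.symm, mul_assoc] using this
  · rw [conj_orderOf]; exact hy

/-- A character nontrivial on `z` vanishes at outside elements. -/
theorem nontrivial_out {ψ : IrrCharacter K} (hζ : zeta z ψ ≠ 1) (r : ι) :
    (ψ : K → ℂ) (x r) = 0 := by
  obtain ⟨y, -, hy⟩ := S.exists_conj_mul (hx.out r) (mem_zpowers z)
  have h1 : (ψ : K → ℂ) (z * x r) = (ψ : K → ℂ) (x r) := by
    rw [Subgroup.mem_center_iff.1 hzc (x r) |>.symm, ← hy, irr_isClassFun ψ (x r) y]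
  rw [zeta_mul S hzc] at h1
  by_contra h0
  exact hζ (mul_right_cancel₀ h0 (h1.trans (one_mul _).symm))

/-- The inner product when the first factor is nontrivial on `z` or both are functions of the
regular part. -/
theorem card_mul_inner (f g : K → ℂ) (hout : ∀ h, Outer z h → f h * conj (g h) = 0) {a b : ℂ}
    (hf : ∀ h, f (z * h) = a * f h) (hg : ∀ h, g (z * h) = b * g h) :
    (Nat.card K : ℂ) * classInner f g =
      (1 + a * conj b + (a * conj b) * (a * conj b)) * rho f g := by
  classical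
  have hne : (Nat.card K : ℂ) ≠ 0 := Nat.cast_ne_zero.2 Nat.card_pos.ne'
  rw [classInner, ← mul_assoc, mul_inv_cancel₀ hne, one_mul, sum_split S hzc,
    Finset.sum_eq_zero (s := (Finset.univ : Finset K)) (fun h _ => by
      split_ifs with hh
      · exact hout h hh
      · rfl), add_zero, rho, Finset.mul_sum]
  refine Finset.sum_congr rfl fun y _ => ?_
  have hzi : z⁻¹ * y = z * (z * y) := by
    rw [← mul_assoc, show z * z = z⁻¹ from eq_inv_of_mul_eq_one_left (by
      rw [← sq, ← pow_succ]; exact S.z_pow)]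
  simp only [hzi, hf, hg, map_mul]
  ring

/-- Orthogonality on regular elements for a fixed nontrivial central root. -/
theorem om_orth (hM : IsPModular 3 M) {w : ℂ} (hw : IsPrimitiveRoot w 3) {ξ η : IrrCharacter K}
    (hξ : ξ ∈ om M z w) (hη : η ∈ om M z w) [Decidable (ξ = η)] :
    3 * rho (ξ : K → ℂ) (η : K → ℂ) = if ξ = η then (Nat.card K : ℂ) else 0 := by
  classical
  simp only [om, Finset.mem_filter, mem_bset] at hξ hη
  have h := card_mul_inner S hzc hx (ξ : K → ℂ) (η : K → ℂ) (a := w) (b := w) (fun h hh => by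
    obtain ⟨r, hr⟩ := outer_value S hzc hx hM hh
    rw [hr ξ hξ.1, nontrivial_out S hzc hx (hξ.2 ▸ w_ne_one hw) r, zero_mul])
    (fun h => hξ.2 ▸ zeta_mul S hzc ξ h) (fun h => hη.2 ▸ zeta_mul S hzc η h)
  rw [w_conj hw, show w * w ^ 2 = 1 by rw [← hw.pow_eq_one]; ring] at h
  rw [show (3 : ℂ) = 1 + 1 + 1 * 1 by norm_num, ← h]
  split_ifs with e
  · subst e; rw [classInner_irr_self ξ.2, mul_one]
  · rw [classInner_irr_ne ξ.2 η.2 (fun e' => e (Subtype.ext e')), mul_zero]

omit hx

/-- A combination of the block orthogonal to the characters with root `w` vanishes on regular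
elements. -/
theorem reg_eq_zero (hM : IsPModular 3 M) {w : ℂ} (hw : IsPrimitiveRoot w 3)
    {f : K → ℂ} (c : IrrCharacter K → ℂ)
    (hf : ∀ y ∈ regs K, f y = ∑ ψ ∈ bset (principalBlock M K), c ψ * (ψ : K → ℂ) y)
    (horth : ∀ ξ ∈ om M z w, rho f (ξ : K → ℂ) = 0) : ∀ y ∈ regs K, f y = 0 := by
  classical
  set B := principalBlock M K with hBdef
  set F : K → ℂ := fun h => ∑ ψ ∈ bset B, c ψ * (ψ : K → ℂ) h with hF
  have hFc : ∀ a b : K, F (b * a * b⁻¹) = F a := fun a b =>
    Finset.sum_congr rfl fun ψ _ => by rw [irr_isClassFun ψ a b]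
  set g : K → ℂ := fun h => (if ¬ 3 ∣ orderOf h then F h else 0) +
    w * (if ¬ 3 ∣ orderOf (z⁻¹ * h) then F (z⁻¹ * h) else 0) +
    w ^ 2 * (if ¬ 3 ∣ orderOf (z * h) then F (z * h) else 0) with hg
  have hcl : IsClassFunction K g := by
    intro a b
    have e : ∀ t ∈ Subgroup.center K, t * (b * a * b⁻¹) = b * (t * a) * b⁻¹ := fun t ht => by
      rw [← mul_assoc t, ← mul_assoc t, ← Subgroup.mem_center_iff.1 ht b]; group
    simp only [hg, e _ hzc, e _ (inv_mem hzc), hFc, conj_orderOf]
  have hval : ∀ y ∈ regs K, g y = f y ∧ g (z * y) = w * f y ∧ g (z⁻¹ * y) = w ^ 2 * f y := by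
    intro y hy
    have hy' := mem_regs.1 hy
    have hzz : z * z = z⁻¹ := eq_inv_of_mul_eq_one_left (by rw [← sq, ← pow_succ]; exact S.z_pow)
    have hzi : z⁻¹ * z⁻¹ = z := by rw [← _root_.mul_inv_rev, hzz, inv_inv]
    have h2 := singular_mul S hzc hy' (mem_zpowers z) S.ne
    have h3 := singular_mul S hzc hy' (inv_mem (mem_zpowers z)) (inv_ne_one.2 S.ne)
    have e := hf y hy
    refine ⟨?_, ?_, ?_⟩ <;>
      simp only [hg, inv_mul_cancel_left, mul_inv_cancel_left, ← mul_assoc z z, ← mul_assoc z⁻¹ z⁻¹,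
        hzz, hzi, h2, h3, hy', not_true, not_false_eq_true, if_true, if_false] <;>
      simp [hF, e]
  have hzero : ∀ ψ : IrrCharacter K, classInner g (ψ : K → ℂ) = 0 := by
    intro ψ
    have hne : (Nat.card K : ℂ) ≠ 0 := Nat.cast_ne_zero.2 Nat.card_pos.ne'
    refine (mul_eq_zero.1 ?_).resolve_left hne
    rw [classInner, ← mul_assoc, mul_inv_cancel₀ hne, one_mul, sum_split S hzc,
      Finset.sum_eq_zero (s := (Finset.univ : Finset K)) (fun h _ => by
        split_ifs with hh
        · simp [hg, hh.1, hh.2.1, hh.2.2]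
        · rfl), add_zero]
    have e1 : ∑ y ∈ regs K, (g y * conj ((ψ : K → ℂ) y) + g (z * y) * conj ((ψ : K → ℂ) (z * y)) +
        g (z⁻¹ * y) * conj ((ψ : K → ℂ) (z⁻¹ * y))) =
        (1 + w * conj (zeta z ψ) + (w * conj (zeta z ψ)) * (w * conj (zeta z ψ))) *
          rho f (ψ : K → ℂ) := by
      rw [rho, Finset.mul_sum]
      refine Finset.sum_congr rfl fun y hy => ?_
      obtain ⟨a, b, d⟩ := hval y hy
      rw [a, b, d, zeta_mul S hzc, zeta_inv_mul S hzc]
      simp only [map_mul, map_pow]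
      ring
    rw [e1]
    by_cases hψB : ψ ∈ B
    · rcases zeta_cases S hzc hw ψ with e | e | e
      · rw [e, map_one, mul_one, show 1 + w + w * w = 0 by rw [← w_sum hw]; ring, zero_mul]
      · rw [horth ψ (Finset.mem_filter.2 ⟨mem_bset.2 hψB, e⟩), mul_zero]
      · rw [e, map_pow, w_conj hw, show w * (w ^ 2) ^ 2 = w ^ 2 by
          rw [show w * (w ^ 2) ^ 2 = w ^ 3 * w ^ 2 by ring, hw.pow_eq_one, one_mul],
          show 1 + w ^ 2 + w ^ 2 * w ^ 2 = 0 by
            rw [show w ^ 2 * w ^ 2 = w ^ 3 * w by ring, hw.pow_eq_one, one_mul, ← w_sum hw]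
            ring, zero_mul]
    · suffices rho f (ψ : K → ℂ) = 0 by rw [this, mul_zero]
      have : rho f (ψ : K → ℂ) = ∑ φ ∈ bset B, c φ * regS 3 (φ : K → ℂ) (ψ : K → ℂ) := by
        rw [rho, Finset.sum_congr rfl fun y hy => by rw [hf y hy, Finset.sum_mul],
          Finset.sum_comm]
        refine Finset.sum_congr rfl fun φ _ => ?_
        rw [regS, Finset.mul_sum, regs, Finset.sum_filter]
        refine Finset.sum_congr rfl fun y _ => ?_
        simp only [regFn, irr_conjInv]
        split_ifs <;> ring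
      rw [this]
      refine Finset.sum_eq_zero fun φ hφ => ?_
      rw [regS_eq_zero hM fun hs => hψB ?_, mul_zero]
      show ψ ∈ principalBlock M K
      rw [eq_blockOf hM principalBlock_isPBlock (mem_bset.1 hφ)]
      exact hs
  intro y hy
  rw [← (hval y hy).1, congrFun (eq_sum_irr hcl) y]
  simp [hzero]

include hx

/-- Expansion on regular elements in the characters with root `w`. -/
theorem expand (hM : IsPModular 3 M) {w : ℂ} (hw : IsPrimitiveRoot w 3) {f : K → ℂ}
    (c : IrrCharacter K → ℂ)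
    (hf : ∀ y ∈ regs K, f y = ∑ ψ ∈ bset (principalBlock M K), c ψ * (ψ : K → ℂ) y)
    {y : K} (hy : y ∈ regs K) :
    f y = ∑ ξ ∈ om M z w, 3 * rho f (ξ : K → ℂ) / (Nat.card K : ℂ) * (ξ : K → ℂ) y := by
  classical
  set a : IrrCharacter K → ℂ := fun ξ => 3 * rho f (ξ : K → ℂ) / (Nat.card K : ℂ) with ha
  have hne : (Nat.card K : ℂ) ≠ 0 := Nat.cast_ne_zero.2 Nat.card_pos.ne'
  have h0 := reg_eq_zero S hzc hM hw (f := fun y => f y - ∑ ξ ∈ om M z w, a ξ * (ξ : K → ℂ) y)
    (fun ψ => c ψ - (if ψ ∈ om M z w then a ψ else 0)) (fun t ht => by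
      simp only [sub_mul, Finset.sum_sub_distrib, ite_mul, zero_mul, ← Finset.sum_filter]
      rw [hf t ht, show (bset (principalBlock M K)).filter (· ∈ om M z w) = om M z w by
        ext ψ; simp [om]]) (fun η hη => by
      simp only [rho, sub_mul, Finset.sum_sub_distrib, Finset.sum_mul, mul_assoc]
      rw [Finset.sum_comm (s := regs K)]
      simp only [← Finset.mul_sum]
      rw [Finset.sum_eq_single η (fun ξ hξ hne' => by
          have := om_orth S hzc hx hM hw hξ hη
          rw [if_neg hne', rho] at this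
          rw [(mul_eq_zero.1 this).resolve_left three_ne_zero, mul_zero]) (fun h => absurd hη h)]
      have := om_orth S hzc hx hM hw hη hη
      rw [if_pos rfl, rho] at this
      simp only [ha, rho]
      field_simp
      linear_combination (-(∑ y ∈ regs K, f y * conj ((η : K → ℂ) y))) * this) y hy
  exact sub_eq_zero.1 h0

/-- The rank of the block is the number of characters with root `w`. -/
theorem rank_eq (hM : IsPModular 3 M) {w : ℂ} (hw : IsPrimitiveRoot w 3) :
    blockRank 3 (principalBlock M K) = (om M z w).card := by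
  classical
  set v : om M z w → K → ℂ := fun ξ => pRegularPart 3 ((ξ : IrrCharacter K) : K → ℂ) with hv
  have hspan : Submodule.span ℂ ((fun χ : IrrCharacter K => pRegularPart 3 (χ : K → ℂ)) ''
      principalBlock M K) = Submodule.span ℂ (Set.range v) := by
    refine le_antisymm (Submodule.span_le.2 ?_) (Submodule.span_mono ?_)
    · rintro _ ⟨χ, hχ, rfl⟩
      have e : pRegularPart 3 (χ : K → ℂ) = ∑ ξ : om M z w,
          (3 * rho (χ : K → ℂ) ((ξ : IrrCharacter K) : K → ℂ) / (Nat.card K : ℂ)) • v ξ := by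
        funext t
        simp only [Finset.sum_apply, Pi.smul_apply, smul_eq_mul, hv, pRegularPart_apply]
        split_ifs with ht
        · simp
        · rw [expand S hzc hx hM hw (f := (χ : K → ℂ)) (fun ψ => if ψ = χ then 1 else 0)
            (fun y _ => by simp [ite_mul, mem_bset, hχ]) (mem_regs.2 ht)]
          exact (Finset.sum_coe_sort (om M z w) fun ξ =>
            3 * rho (χ : K → ℂ) (ξ : K → ℂ) / (Nat.card K : ℂ) * (ξ : K → ℂ) t).symm
      show pRegularPart 3 (χ : K → ℂ) ∈ _
      rw [e]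
      exact sum_mem fun ξ _ => Submodule.smul_mem _ _ (Submodule.subset_span ⟨ξ, rfl⟩)
    · rintro _ ⟨ξ, rfl⟩
      exact ⟨ξ, mem_bset.1 (Finset.mem_filter.1 ξ.2).1, rfl⟩
  have hind : LinearIndependent ℂ v := by
    rw [Fintype.linearIndependent_iff]
    intro g hg η
    have h1 : ∀ t ∈ regs K, ∑ ξ, g ξ * ((ξ : IrrCharacter K) : K → ℂ) t = 0 := fun t ht => by
      have := congrFun hg t
      simpa [hv, pRegularPart_apply, mem_regs.1 ht] using this
    have h2 : ∑ t ∈ regs K, (∑ ξ, g ξ * ((ξ : IrrCharacter K) : K → ℂ) t) *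
        conj (((η : IrrCharacter K) : K → ℂ) t) = 0 :=
      Finset.sum_eq_zero fun t ht => by rw [h1 t ht, zero_mul]
    simp only [Finset.sum_mul, mul_assoc] at h2
    rw [Finset.sum_comm] at h2
    simp only [← Finset.mul_sum] at h2
    rw [Finset.sum_eq_single η (fun ξ _ hne => by
      have := om_orth S hzc hx hM hw ξ.2 η.2
      rw [if_neg (fun e => hne (Subtype.ext e)), rho] at this
      rw [(mul_eq_zero.1 this).resolve_left three_ne_zero, mul_zero]) (by simp)] at h2
    refine (mul_eq_zero.1 h2).resolve_right fun h0 => ?_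
    have := om_orth S hzc hx hM hw η.2 η.2
    rw [if_pos rfl, rho, h0, mul_zero] at this
    exact Nat.cast_ne_zero.2 Nat.card_pos.ne' this.symm
  rw [blockRank, hspan, finrank_span_eq_card hind, Fintype.card_coe]

omit hx

/-- A lift of the regular part of a character of the block to the characters trivial on `z`. -/
theorem exists_lift (hM : IsPModular 3 M) {ξ : IrrCharacter K} (hξ : ξ ∈ principalBlock M K) :
    ∃ n : IrrCharacter K → ℤ, (∀ ψ ∉ infl M z, n ψ = 0) ∧
      ∀ y ∈ regs K, ∑ ψ ∈ infl M z, (n ψ : ℂ) * (ψ : K → ℂ) y = (ξ : K → ℂ) y := by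
  classical
  obtain ⟨a, ha⟩ : ∃ a, (Nat.card K).factorization 3 = a := ⟨_, rfl⟩
  set q := Nat.card K / 3 ^ a with hq
  have hcop : Nat.Coprime (3 ^ a) q := by
    rw [hq, ← ha]
    exact (Nat.coprime_ordCompl Nat.prime_three Nat.card_pos.ne').pow_left _
  have hcard : Nat.card K = 3 ^ a * q := by
    rw [hq, ← ha, Nat.ordProj_mul_ordCompl_eq_self]
  obtain ⟨m, hm3, hmq⟩ := Nat.chineseRemainder hcop 0 1
  have hpow3 : ∀ t : K, t ^ 3 ^ a = 1 → t ^ m = 1 := fun t ht => by
    obtain ⟨k, hk⟩ := Nat.modEq_zero_iff_dvd.1 hm3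
    rw [hk, pow_mul, ht, one_pow]
  have hpowq : ∀ t : K, t ^ q = 1 → t ^ m = t := fun t ht => by
    rw [pow_eq_pow_mod m ht, hmq, ← pow_eq_pow_mod 1 ht, pow_one]
  have hreg : ∀ t : K, ¬ 3 ∣ orderOf t → t ^ m = t := fun t ht => hpowq t
    (orderOf_dvd_iff_pow_eq_one.1 (CharTheory.dvd_of_coprime_right
      (show orderOf t ∣ q * 3 ^ a by rw [mul_comm, ← hcard]; exact orderOf_dvd_natCard t)
      ((Nat.prime_three.coprime_iff_not_dvd.2 ht).symm.pow_right a)))
  set θ : K → ℂ := fun h => (ξ : K → ℂ) (h ^ m) with hθ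
  have hcl : IsClassFunction K θ := fun h b => by
    simp only [hθ, conj_pow]
    exact irr_isClassFun ξ _ _
  have hgen : IsGeneralizedCharacter K θ := by
    refine isGenChar_of_elementary hcl fun E p hp hE => ?_
    have hnil := isNilpotent_of_elementary hp hE
    obtain ⟨U, -, hU, hUc⟩ := exists_coprime_part hnil q
    obtain ⟨V, -, hV, -⟩ := exists_coprime_part hnil 3
    have hsplit : ∀ t : E, ∃ u v : E, t = u * v ∧ (u : K) ^ 3 ^ a = 1 ∧ (v : K) ^ q = 1 := by
      intro t
      obtain ⟨u, v, he, hc, ⟨k, hk⟩, hv, hum, hvm⟩ := exists_pPart Nat.prime_three (t : K)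
      obtain ⟨i, hi⟩ := hum
      obtain ⟨j, hj⟩ := hvm
      refine ⟨t ^ i, t ^ j, Subtype.ext ?_, ?_, ?_⟩
      · push_cast
        rw [show (t : K) ^ i = u from hi, show (t : K) ^ j = v from hj, he]
      · push_cast
        rw [show (t : K) ^ i = u from hi]
        refine orderOf_dvd_iff_pow_eq_one.1 (CharTheory.dvd_of_coprime_right
          (hcard ▸ orderOf_dvd_natCard u) ?_)
        rw [hk]
        rw [hq, ← ha]
        exact (Nat.coprime_ordCompl Nat.prime_three Nat.card_pos.ne').pow_left _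
      · push_cast
        rw [show (t : K) ^ j = v from hj]
        refine orderOf_dvd_iff_pow_eq_one.1 (CharTheory.dvd_of_coprime_right
          (show orderOf v ∣ q * 3 ^ a by rw [mul_comm, ← hcard]; exact orderOf_dvd_natCard v)
          ((Nat.prime_three.coprime_iff_not_dvd.2 hv).symm.pow_right a))
    have hcomm : ∀ u v : E, (u : K) ^ 3 ^ a = 1 → (v : K) ^ q = 1 → Commute u v := fun u v hu hv =>
      hUc u v (Nat.Coprime.of_dvd (Subgroup.orderOf_coe u ▸ orderOf_dvd_of_pow_eq_one hu)
        (Subgroup.orderOf_coe v ▸ orderOf_dvd_of_pow_eq_one hv) hcop)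
    have hmul : ∀ s t : E, ((s * t : E) : K) ^ m = (s : K) ^ m * (t : K) ^ m := by
      intro s t
      obtain ⟨u, v, rfl, hu, hv⟩ := hsplit s
      obtain ⟨u', v', rfl, hu', hv'⟩ := hsplit t
      have hc1 := hcomm u' v hu' hv
      have hUmem : ∀ e : E, (e : K) ^ 3 ^ a = 1 → e ∈ U := fun e he => (hU e).2
        (Nat.Coprime.coprime_dvd_left (Subgroup.orderOf_coe e ▸ orderOf_dvd_of_pow_eq_one he) hcop)
      have hVmem : ∀ e : E, (e : K) ^ q = 1 → e ∈ V := fun e he => (hV e).2
        (Nat.Coprime.coprime_dvd_left (Subgroup.orderOf_coe e ▸ orderOf_dvd_of_pow_eq_one he)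
          (by rw [hq, ← ha]; exact (Nat.coprime_ordCompl Nat.prime_three Nat.card_pos.ne').symm))
      have hU3 : ∀ e ∈ U, (e : K) ^ 3 ^ a = 1 := fun e he => orderOf_dvd_iff_pow_eq_one.1
        (CharTheory.dvd_of_coprime_right (hcard ▸ orderOf_dvd_natCard (e : K))
          (by rw [Subgroup.orderOf_coe]; exact (hU e).1 he))
      have hVq : ∀ e ∈ V, (e : K) ^ q = 1 := fun e he => orderOf_dvd_iff_pow_eq_one.1
        (CharTheory.dvd_of_coprime_right
          (show orderOf (e : K) ∣ q * 3 ^ a by rw [mul_comm, ← hcard]; exact orderOf_dvd_natCard _)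
          (by rw [Subgroup.orderOf_coe]; exact ((hV e).1 he).pow_right a))
      have huu := hU3 _ (mul_mem (hUmem u hu) (hUmem u' hu'))
      have hvv := hVq _ (mul_mem (hVmem v hv) (hVmem v' hv'))
      have e : u * v * (u' * v') = (u * u') * (v * v') := by
        rw [mul_assoc u v, ← mul_assoc v u', ← hc1.eq, mul_assoc u' v, ← mul_assoc u u']
      have hk : Commute (((u * u' : E) : K)) ((v * v' : E) : K) :=
        (hcomm _ _ huu hvv).map E.subtype
      have hk1 : Commute (u : K) (v : K) := (hcomm _ _ hu hv).map E.subtype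
      have hk2 : Commute (u' : K) (v' : K) := (hcomm _ _ hu' hv').map E.subtype
      rw [e, show ((u * u' * (v * v') : E) : K) = ((u * u' : E) : K) * ((v * v' : E) : K) from rfl,
        show ((u * v : E) : K) = (u : K) * v from rfl,
        show ((u' * v' : E) : K) = (u' : K) * v' from rfl, hk.mul_pow, hk1.mul_pow, hk2.mul_pow,
        hpow3 _ huu, hpowq _ hvv, hpow3 _ hu, hpowq _ hv, hpow3 _ hu', hpowq _ hv']
      simp
    let φ : E →* K := MonoidHom.mk' (fun e => (e : K) ^ m) hmul
    exact isGenChar_of_char (isCharacter_comp (isCharacter_of_irr ξ.2) φ)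
  choose n hn using fun ψ : IrrCharacter K => (isGenChar_iff_coeff_int.1 hgen).2 _ ψ.2
  have hzero : ∀ ψ : IrrCharacter K, zeta z ψ ≠ 1 → n ψ = 0 := by
    intro ψ hψ
    have e : classInner θ (ψ : K → ℂ) = conj (zeta z ψ) * classInner θ (ψ : K → ℂ) := by
      conv_lhs => rw [classInner]
      rw [classInner, mul_left_comm]
      congr 1
      rw [Finset.mul_sum]
      refine (Fintype.sum_equiv (Equiv.mulLeft z)
        (fun h => conj (zeta z ψ) * (θ h * conj ((ψ : K → ℂ) h)))
        (fun h => θ h * conj ((ψ : K → ℂ) h)) fun h => ?_).symm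
      simp only [Equiv.coe_mulLeft, hθ, zeta_mul S hzc, map_mul,
        (show Commute z h from (Subgroup.mem_center_iff.1 hzc h).symm).mul_pow,
        hpow3 z (by
          obtain ⟨k, hk⟩ : 3 ∣ 3 ^ a := by
            refine dvd_pow_self 3 fun h0 => ?_
            have hd : 3 ∣ q := by
              have : 3 ∣ Nat.card K := S.order_z ▸ orderOf_dvd_natCard z
              rw [hcard, h0, pow_zero, one_mul] at this
              exact this
            rw [hq, ← ha] at hd
            exact Nat.not_dvd_ordCompl Nat.prime_three Nat.card_pos.ne' hd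
          rw [hk, pow_mul, S.z_pow, one_pow]), one_mul]
      ring
    have hne : conj (zeta z ψ) ≠ 1 := fun h1 => hψ (by simpa using congrArg conj h1)
    have h1 : (1 - conj (zeta z ψ)) * (n ψ : ℂ) = 0 := by
      rw [← hn ψ, sub_mul, one_mul, ← e, sub_self]
    exact_mod_cast (mul_eq_zero.1 h1).resolve_left (sub_ne_zero.2 (Ne.symm hne))
  refine ⟨fun ψ => if ψ ∈ infl M z then n ψ else 0, fun ψ hψ => if_neg hψ, fun y hy => ?_⟩
  have hy' := mem_regs.1 hy
  have key : ∀ φ : K → ℂ, ∑ ψ ∈ bset (principalBlock M K), classInner φ (ψ : K → ℂ) * (ψ : K → ℂ) y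
      = (Nat.card K : ℂ)⁻¹ * ∑ c ∈ regs K, φ c * ker M y c := by
    intro φ
    simp only [classInner, ker, Finset.mul_sum, Finset.sum_mul]
    rw [Finset.sum_comm, regs, Finset.sum_filter]
    refine Finset.sum_congr rfl fun c _ => ?_
    split_ifs with hc
    · have e := ker_reg (M := M) hM hy' hc
      rw [ker] at e
      rw [show (∑ ψ ∈ bset (principalBlock M K), (Nat.card K : ℂ)⁻¹ *
          (φ c * conj ((ψ : K → ℂ) c)) * (ψ : K → ℂ) y) = (Nat.card K : ℂ)⁻¹ * φ c *
          ∑ ψ ∈ bset (principalBlock M K), (ψ : K → ℂ) y * conj ((ψ : K → ℂ) c) by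
        rw [Finset.mul_sum]; exact Finset.sum_congr rfl fun ψ _ => by ring, e, mul_zero]
    · exact Finset.sum_congr rfl fun ψ _ => by ring
  have h1 : ∑ ψ ∈ bset (principalBlock M K), classInner θ (ψ : K → ℂ) * (ψ : K → ℂ) y =
      (ξ : K → ℂ) y := by
    rw [key]
    refine Eq.trans (Eq.trans ?_ (key (ξ : K → ℂ)).symm) ?_
    · congr 1
      refine Finset.sum_congr rfl fun t ht => ?_
      simp only [hθ, hreg t (mem_regs.1 ht)]
    · rw [Finset.sum_eq_single_of_mem ξ (mem_bset.2 hξ) (fun φ _ hφ => by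
        rw [classInner_irr_ne ξ.2 φ.2 (fun h => hφ (Subtype.ext h.symm)), zero_mul]),
        classInner_irr_self ξ.2, one_mul]
  rw [← h1, infl, Finset.sum_filter]
  refine Finset.sum_congr rfl fun ψ hψ => ?_
  rw [hn ψ]
  by_cases he : zeta z ψ = 1
  · simp [he, hψ]
  · simp [he, hzero ψ he]

end center

end CfsgLib.Blocks.ThreeExtra
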