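import Cfsg.Agent.Lib.Blocks.ThreeExtra.Fusion

/-!
# The classes of outside elements
-/

namespace CfsgLib.Blocks.ThreeExtra

open Cfsg Subgroup

universe u

variable {G : Type u} [Group G]

/-- The inertial index. -/
noncomputable def eidx (P : Sylow 3 G) : ℕ :=
  (PC P).relIndex (Subgroup.normalizer ((P : Subgroup G) : Set G))

theorem PC_le (P : Sylow 3 G) : PC P ≤ Subgroup.normalizer ((P : Subgroup G) : Set G) :=
  sup_le Subgroup.le_normalizer (centralizer_le_normalizer _)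

theorem PC_normal (P : Sylow 3 G) :
    ((PC P).subgroupOf (Subgroup.normalizer ((P : Subgroup G) : Set G))).Normal := by
  refine (Subgroup.normal_subgroupOf_iff (PC_le P)).2 fun a n ha hn => ?_
  have hC : ∀ c ∈ centralizer ((P : Subgroup G) : Set G),
      n * c * n⁻¹ ∈ centralizer ((P : Subgroup G) : Set G) := fun c hc y hy => by
    have h1 := hc (n⁻¹ * y * n) (by
      have := (mem_normalizer_iff'.1 hn (n⁻¹ * y)).2 (by rw [mul_inv_cancel_left]; exact hy)
      exact this)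
    calc y * (n * c * n⁻¹) = n * ((n⁻¹ * y * n) * c) * n⁻¹ := by group
      _ = n * (c * (n⁻¹ * y * n)) * n⁻¹ := by rw [h1]
      _ = n * c * n⁻¹ * y := by group
  have hle : (PC P).map (MulAut.conj n).toMonoidHom ≤ PC P := by
    rw [PC, Subgroup.map_sup]
    refine sup_le_sup ?_ ?_
    · rintro _ ⟨y, hy, rfl⟩
      exact (mem_normalizer_iff.1 hn y).1 hy
    · rintro _ ⟨c, hc, rfl⟩
      exact hC c hc
  exact hle ⟨a, ha, rfl⟩

theorem not_dvd_eidx [Finite G] (P : Sylow 3 G) : ¬ 3 ∣ eidx P := by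
  haveI : Fact (Nat.Prime 3) := ⟨Nat.prime_three⟩
  intro h
  refine P.not_dvd_index (h.trans ?_)
  refine (Subgroup.relIndex_dvd_of_le_left _ (le_sup_left : (P : Subgroup G) ≤ PC P)).trans ?_
  exact Subgroup.relIndex_dvd_index_of_le Subgroup.le_normalizer |>.trans (dvd_refl _)

namespace Setup

variable {P : Sylow 3 G} {z : G} (S : Setup P z) [Finite G]

include S

/-- An element of the normaliser fixing an outside element lies in `P C(P)`. -/
theorem stab_le {x n : G} (hx : Out P z x)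
    (hn : n ∈ Subgroup.normalizer ((P : Subgroup G) : Set G)) (hnx : n * x = x * n) :
    n ∈ PC P := by
  haveI : Fact (Nat.Prime 3) := ⟨Nat.prime_three⟩
  have hnz := S.norm n hn
  have hcube : n ^ 3 ∈ centralizer ((P : Subgroup G) : Set G) := by
    intro y hy
    obtain ⟨c, hc, hyc⟩ : ∃ c ∈ zpowers z, y * x * y⁻¹ = c * x :=
      ⟨_, S.comm y hy x hx.1, by group⟩
    have hnc : n * c * n⁻¹ = c := by
      obtain ⟨k, rfl⟩ := mem_zpowers_iff.1 hc
      rw [← conj_zpow, hnz, mul_inv_cancel_right]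
    have hnx' : n * x * n⁻¹ = x := by rw [hnx, mul_inv_cancel_right]
    obtain ⟨y', hy'⟩ : ∃ y', y' = n * y * n⁻¹ := ⟨_, rfl⟩
    have hy'P : y' ∈ (P : Subgroup G) := hy' ▸ (mem_normalizer_iff.1 hn y).1 hy
    have hy'x : y' * x * y'⁻¹ = c * x := by
      calc y' * x * y'⁻¹ = n * (y * (n⁻¹ * (n * x * n⁻¹) * n) * y⁻¹) * n⁻¹ := by
            rw [hy']; nth_rw 1 [← hnx']; group
        _ = n * (y * x * y⁻¹) * n⁻¹ := by group
        _ = (n * c * n⁻¹) * (n * x * n⁻¹) := by rw [hyc]; group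
        _ = c * x := by rw [hnc, hnx']
    obtain ⟨a, ha⟩ : ∃ a, a = y⁻¹ * y' := ⟨_, rfl⟩
    have haE : a ∈ Ex P x := by
      refine mem_Ex.2 ⟨ha ▸ mul_mem (inv_mem hy) hy'P, ?_⟩
      calc a * x = y⁻¹ * (y' * x * y'⁻¹) * y' := by rw [ha]; group
        _ = y⁻¹ * (y * x * y⁻¹) * y' := by rw [hy'x, hyc]
        _ = x * a := by rw [ha]; group
    have hna : n * a * n⁻¹ = a := by
      rw [S.centralizes_Ex hx hnz hnx haE, mul_inv_cancel_right]
    have e1 : n * y * n⁻¹ = y * a := by rw [ha, hy']; group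
    have e2 : n ^ 3 * y * (n ^ 3)⁻¹ = y * a ^ 3 := by
      calc n ^ 3 * y * (n ^ 3)⁻¹ = n * (n * (n * y * n⁻¹) * n⁻¹) * n⁻¹ := by
            simp only [pow_succ, pow_zero, one_mul]; group
        _ = n * (n * (y * a) * n⁻¹) * n⁻¹ := by rw [e1]
        _ = n * ((n * y * n⁻¹) * (n * a * n⁻¹)) * n⁻¹ := by group
        _ = n * (y * a * a) * n⁻¹ := by rw [e1, hna]
        _ = (n * y * n⁻¹) * (n * a * n⁻¹) * (n * a * n⁻¹) := by group
        _ = y * a * a * a := by rw [e1, hna]
        _ = y * a ^ 3 := by simp [pow_succ, mul_assoc]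
    rw [S.exp a (mem_Ex.1 haE).1, mul_one, mul_inv_eq_iff_eq_mul] at e2
    exact e2.symm
  haveI := PC_normal P
  set q := QuotientGroup.mk' ((PC P).subgroupOf (Subgroup.normalizer ((P : Subgroup G) : Set G)))
    ⟨n, hn⟩ with hq
  have h3 : q ^ 3 = 1 := by
    rw [hq, ← map_pow, QuotientGroup.mk'_apply, QuotientGroup.eq_one_iff, mem_subgroupOf]
    exact (le_sup_right : _ ≤ PC P) hcube
  have hq1 : q = 1 := by
    rw [← orderOf_eq_one_iff]
    refine Nat.eq_one_of_dvd_coprimes ?_ (orderOf_dvd_of_pow_eq_one h3) (orderOf_dvd_natCard q)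
    rw [Nat.prime_three.coprime_iff_not_dvd]
    exact not_dvd_eidx P
  rwa [hq, QuotientGroup.mk'_apply, QuotientGroup.eq_one_iff, mem_subgroupOf] at hq1

/-- The orbit of an outside element under the normaliser. -/
theorem card_orbit {x : G} (hx : Out P z x) :
    Nat.card {v : G // ∃ n ∈ Subgroup.normalizer ((P : Subgroup G) : Set G), n * x * n⁻¹ = v} =
      3 * eidx P := by
  classical
  have key : ∀ L : Subgroup G,
      Nat.card {v : G // ∃ n ∈ L, n * x * n⁻¹ = v} = (centralizer ({x} : Set G)).relIndex L := by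
    intro L
    set Φ : L ⧸ (centralizer ({x} : Set G)).subgroupOf L →
        {v : G // ∃ n ∈ L, n * x * n⁻¹ = v} :=
      Quotient.lift (fun n : L => ⟨(n : G) * x * (n : G)⁻¹, n, n.2, rfl⟩) (fun a b hab => by
        have h := QuotientGroup.leftRel_apply.1 hab
        rw [mem_subgroupOf, mem_centralizer_singleton_iff] at h
        refine Subtype.ext ?_
        show (a : G) * x * (a : G)⁻¹ = (b : G) * x * (b : G)⁻¹
        have h' : (a : G)⁻¹ * b * x = x * ((a : G)⁻¹ * b) := by simpa using h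
        calc (a : G) * x * (a : G)⁻¹ = (a : G) * (x * ((a : G)⁻¹ * b)) * (b : G)⁻¹ := by group
          _ = (a : G) * ((a : G)⁻¹ * b * x) * (b : G)⁻¹ := by rw [h']
          _ = (b : G) * x * (b : G)⁻¹ := by group)
    refine (Nat.card_congr (Equiv.ofBijective Φ ⟨?_, ?_⟩)).symm
    · rintro ⟨a⟩ ⟨b⟩ h
      refine Quotient.sound (QuotientGroup.leftRel_apply.2 ?_)
      rw [mem_subgroupOf, mem_centralizer_singleton_iff]
      have h' : (a : G) * x * (a : G)⁻¹ = (b : G) * x * (b : G)⁻¹ := congrArg Subtype.val h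
      show (a : G)⁻¹ * b * x = x * ((a : G)⁻¹ * b)
      calc (a : G)⁻¹ * b * x = (a : G)⁻¹ * ((b : G) * x * (b : G)⁻¹) * b := by group
        _ = (a : G)⁻¹ * ((a : G) * x * (a : G)⁻¹) * b := by rw [h']
        _ = x * ((a : G)⁻¹ * b) := by group
    · rintro ⟨v, n, hn, rfl⟩
      exact ⟨QuotientGroup.mk ⟨n, hn⟩, rfl⟩
  rw [key]
  set N := Subgroup.normalizer ((P : Subgroup G) : Set G)
  set C := centralizer ({x} : Set G)
  have hstab : C ⊓ N = C ⊓ PC P := le_antisymm
    (fun n hn => ⟨hn.1, S.stab_le hx hn.2 (mem_centralizer_singleton_iff.1 hn.1)⟩)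
    (inf_le_inf le_rfl (PC_le P))
  have h3 : C.relIndex (PC P) = 3 := by
    rw [← key, ← S.card_zpowers]
    refine Nat.card_congr (Equiv.ofBijective (fun v => ⟨x⁻¹ * v.1, ?_⟩) ⟨?_, ?_⟩)
    · obtain ⟨n, hn, e⟩ := v.2
      rw [← e]
      obtain ⟨a, ha, c, hc, rfl⟩ : ∃ a ∈ (P : Subgroup G),
          ∃ c ∈ centralizer ((P : Subgroup G) : Set G), a * c = n := by
        have := Subgroup.coe_mul_of_right_le_normalizer_left (P : Subgroup G)
          (centralizer ((P : Subgroup G) : Set G)) (centralizer_le_normalizer _)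
        have hn' : n ∈ (((P : Subgroup G) ⊔ centralizer ((P : Subgroup G) : Set G) : Subgroup G) :
            Set G) := hn
        rw [this] at hn'
        obtain ⟨a, ha, c, hc, h⟩ := hn'
        exact ⟨a, ha, c, hc, h⟩
      have hcx : c * x * c⁻¹ = x := by rw [← hc x hx.1, mul_inv_cancel_right]
      have := S.comm x⁻¹ (inv_mem hx.1) a ha
      convert this using 1
      calc x⁻¹ * (a * c * x * (a * c)⁻¹) = x⁻¹ * (a * (c * x * c⁻¹) * a⁻¹) := by group
        _ = x⁻¹ * a * x⁻¹⁻¹ * a⁻¹ := by rw [hcx]; group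
    · intro u v h
      exact Subtype.ext (mul_left_cancel (congrArg Subtype.val h))
    · rintro ⟨w, hw⟩
      obtain ⟨y, hy, hyx⟩ := S.exists_conj_mul hx hw
      exact ⟨⟨x * w, y, (le_sup_left : _ ≤ PC P) hy, hyx⟩, Subtype.ext (inv_mul_cancel_left x w)⟩
  rw [← Subgroup.inf_relIndex_right C N, hstab, ← h3, ← Subgroup.inf_relIndex_right C (PC P),
    eidx, Subgroup.relIndex_mul_relIndex _ _ _ inf_le_right (PC_le P)]

/-- For even inertial index an outside element is conjugate to its inverse. -/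
theorem isConj_inv (he : Even (eidx P)) {x : G} (hx : Out P z x) : IsConj x x⁻¹ := by
  haveI := PC_normal P
  haveI : Fact (Nat.Prime 2) := ⟨Nat.prime_two⟩
  set N := Subgroup.normalizer ((P : Subgroup G) : Set G) with hN
  obtain ⟨q, hq⟩ := exists_prime_orderOf_dvd_card' (G := N ⧸ (PC P).subgroupOf N) 2
    (even_iff_two_dvd.1 he)
  obtain ⟨⟨n, hn⟩, rfl⟩ := QuotientGroup.mk_surjective q
  have hnP : n ∉ PC P := fun h => by
    rw [(QuotientGroup.eq_one_iff (⟨n, hn⟩ : N)).2 (mem_subgroupOf.2 h), orderOf_one] at hq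
    omega
  have hn2 : n * n ∈ PC P := by
    have h := pow_orderOf_eq_one ((⟨n, hn⟩ : N) : N ⧸ (PC P).subgroupOf N)
    rw [hq, sq, ← QuotientGroup.mk_mul, QuotientGroup.eq_one_iff, mem_subgroupOf] at h
    exact h
  obtain ⟨x', hx'⟩ : ∃ x', x' = n * x * n⁻¹ := ⟨_, rfl⟩
  have hx'P : x' ∈ (P : Subgroup G) := hx' ▸ (mem_normalizer_iff.1 hn x).1 hx.1
  have hnz : n * z * n⁻¹ = z := by rw [S.norm n hn, mul_inv_cancel_right]
  -- `n²` moves `x` inside its coset
  obtain ⟨d, hd, hnd⟩ : ∃ d ∈ zpowers z, n * x' * n⁻¹ = x * d := by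
    have h' := hn2
    rw [PC, ← SetLike.mem_coe, Subgroup.coe_mul_of_right_le_normalizer_left _ _
      (centralizer_le_normalizer _)] at h'
    obtain ⟨a, ha, c, hc, hac⟩ := h'
    refine ⟨_, S.comm x⁻¹ (inv_mem hx.1) a ha, ?_⟩
    have hcx : c * x * c⁻¹ = x := by rw [← hc x hx.1, mul_inv_cancel_right]
    calc n * x' * n⁻¹ = (n * n) * x * (n * n)⁻¹ := by rw [hx']; group
      _ = a * (c * x * c⁻¹) * a⁻¹ := by rw [← (hac : a * c = n * n)]; group
      _ = x * (x⁻¹ * a * x⁻¹⁻¹ * a⁻¹) := by rw [hcx]; group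
  obtain ⟨w, hw⟩ : ∃ w, w = x * x' := ⟨_, rfl⟩
  have hwz : w ∈ zpowers z := by
    by_contra hwz
    have hwO : Out P z w := ⟨hw ▸ mul_mem hx.1 hx'P, hwz⟩
    have hdc : ∀ v ∈ (P : Subgroup G), Commute d v := fun v hv => by
      obtain ⟨k, rfl⟩ := mem_zpowers_iff.1 hd
      exact (show Commute z v from S.cent v hv).zpow_left k
    obtain ⟨c', hc'⟩ : ∃ c', c' = x' * x * x'⁻¹ * x⁻¹ := ⟨_, rfl⟩
    have hc'z : c' ∈ zpowers z := hc' ▸ S.comm x' hx'P x hx.1
    have e : n * w * n⁻¹ = w * (d * c') := by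
      have hc'w : Commute c' w := by
        obtain ⟨k, hk⟩ := mem_zpowers_iff.1 hc'z
        exact hk ▸ (show Commute z w from S.cent w hwO.1).zpow_left k
      calc n * w * n⁻¹ = (n * x * n⁻¹) * (n * x' * n⁻¹) := by rw [hw]; group
        _ = x' * (x * d) := by rw [hnd, ← hx']
        _ = c' * (x * x') * d := by rw [hc']; group
        _ = w * (d * c') := by
          rw [← hw, hc'w.eq, mul_assoc]
          congr 1
          obtain ⟨k, hk⟩ := mem_zpowers_iff.1 hd
          obtain ⟨k', hk'⟩ := mem_zpowers_iff.1 hc'z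
          rw [← hk, ← hk', ← zpow_add, ← zpow_add, add_comm]
    obtain ⟨y, hy, hyw⟩ := S.exists_conj_mul hwO (mul_mem hd hc'z)
    have hcomm : (y⁻¹ * n) * w = w * (y⁻¹ * n) := by
      calc (y⁻¹ * n) * w = y⁻¹ * (n * w * n⁻¹) * n := by group
        _ = y⁻¹ * (y * w * y⁻¹) * n := by rw [e, hyw]
        _ = w * (y⁻¹ * n) := by group
    have hin := S.stab_le hwO
      (mul_mem (inv_mem (Subgroup.le_normalizer hy)) hn) hcomm
    have hin' := mul_mem (show y ∈ PC P from (le_sup_left : _ ≤ PC P) hy) hin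
    rw [mul_inv_cancel_left] at hin'
    exact hnP hin'
  obtain ⟨y, hy, hyx⟩ := S.exists_conj_mul (S.out_inv hx) (hwz : w ∈ zpowers z)
  have h1 : x⁻¹ * w = x' := by rw [hw, inv_mul_cancel_left]
  exact isConj_iff.2 ⟨y⁻¹ * n, by
    calc y⁻¹ * n * x * (y⁻¹ * n)⁻¹ = y⁻¹ * (n * x * n⁻¹) * y := by group
      _ = y⁻¹ * (y * x⁻¹ * y⁻¹) * y := by rw [← hx', ← h1, hyx]
      _ = x⁻¹ := by group⟩

/-- Representatives of the classes of outside elements. -/
theorem exists_classes :
    ∃ X : Finset G, (∀ x ∈ X, Out P z x) ∧ X.card * eidx P = 8 ∧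
      ∀ u : G, Out P z u → ∃! x, x ∈ X ∧ IsConj u x := by
  classical
  haveI := Fintype.ofFinite G
  set O := Finset.univ.filter (fun u : G => Out P z u) with hO
  set rep : G → G := fun u =>
    if h : ∃ v, Out P z v ∧ IsConj u v then
      Classical.choose (p := fun v => Out P z v ∧ ConjClasses.mk v = ConjClasses.mk u)
        (h.imp fun v hv => ⟨hv.1, (ConjClasses.mk_eq_mk_iff_isConj.2 hv.2).symm⟩)
    else u with hrep
  have hrep1 : ∀ u, Out P z u → Out P z (rep u) ∧ IsConj u (rep u) := by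
    intro u hu
    have h : ∃ v, Out P z v ∧ IsConj u v := ⟨u, hu, IsConj.refl u⟩
    simp only [hrep, dif_pos h]
    obtain ⟨h1, h2⟩ := Classical.choose_spec (p := fun v => Out P z v ∧
      ConjClasses.mk v = ConjClasses.mk u)
      (h.imp fun v hv => ⟨hv.1, (ConjClasses.mk_eq_mk_iff_isConj.2 hv.2).symm⟩)
    exact ⟨h1, (ConjClasses.mk_eq_mk_iff_isConj.1 h2).symm⟩
  have hrep2 : ∀ u v, Out P z u → Out P z v → IsConj u v → rep u = rep v := by
    intro u v hu hv huv
    have e : ConjClasses.mk u = ConjClasses.mk v := ConjClasses.mk_eq_mk_iff_isConj.2 huv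
    simp only [hrep, dif_pos (⟨u, hu, IsConj.refl u⟩ : ∃ w, Out P z w ∧ IsConj u w),
      dif_pos (⟨v, hv, IsConj.refl v⟩ : ∃ w, Out P z w ∧ IsConj v w)]
    congr 1
    funext w
    rw [e]
  refine ⟨O.image rep, fun x hx => ?_, ?_, fun u hu => ⟨rep u, ⟨Finset.mem_image_of_mem _
    (Finset.mem_filter.2 ⟨Finset.mem_univ _, hu⟩), (hrep1 u hu).2⟩, ?_⟩⟩
  · obtain ⟨u, hu, rfl⟩ := Finset.mem_image.1 hx
    exact (hrep1 u (Finset.mem_filter.1 hu).2).1
  · have hfib : ∀ x ∈ O.image rep, (O.filter fun u => rep u = x).card = 3 * eidx P := by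
      intro x hx
      obtain ⟨u, hu, rfl⟩ := Finset.mem_image.1 hx
      have hu' := (Finset.mem_filter.1 hu).2
      rw [← S.card_orbit hu', Nat.card_eq_fintype_card, Fintype.card_subtype]
      congr 1
      ext v
      simp only [hO, Finset.mem_filter, Finset.mem_univ, true_and]
      constructor
      · rintro ⟨hv, e⟩
        exact S.conj_normalizer hu' hv.1
          ((hrep1 u hu').2.trans (e ▸ (hrep1 v hv).2.symm))
      · rintro ⟨n, hn, rfl⟩
        have hv := S.out_conj hu' ((mem_normalizer_iff.1 hn u).1 hu'.1)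
        exact ⟨hv, (hrep2 u _ hu' hv (isConj_iff.2 ⟨n, rfl⟩)).symm⟩
    have hsum := Finset.card_eq_sum_card_image rep O
    rw [Finset.sum_congr rfl hfib, Finset.sum_const, smul_eq_mul] at hsum
    have hO24 : O.card = 24 := by
      have hPc : (Finset.univ.filter fun u : G => u ∈ (P : Subgroup G)).card = 27 := by
        rw [← Fintype.card_subtype, ← Nat.card_eq_fintype_card]; exact S.card
      have hZc : (Finset.univ.filter fun u : G => u ∈ zpowers z).card = 3 := by
        rw [← Fintype.card_subtype, ← Nat.card_eq_fintype_card]; exact S.card_zpowers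
      have hd : O = (Finset.univ.filter fun u : G => u ∈ (P : Subgroup G)) \
          (Finset.univ.filter fun u : G => u ∈ zpowers z) := by
        ext u
        simp only [hO, Finset.mem_filter, Finset.mem_sdiff, Finset.mem_univ, true_and]
        exact Iff.rfl
      rw [hd, Finset.card_sdiff_of_subset (fun u hu => Finset.mem_filter.2 ⟨Finset.mem_univ _,
        S.zpowers_le (Finset.mem_filter.1 hu).2⟩), hPc, hZc]
    rw [hO24] at hsum
    linarith
  · rintro x ⟨hx, hux⟩
    obtain ⟨v, hv, rfl⟩ := Finset.mem_image.1 hx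
    have hv' := (Finset.mem_filter.1 hv).2
    exact hrep2 v u hv' hu ((hrep1 v hv').2.trans hux.symm)

end Setup

end CfsgLib.Blocks.ThreeExtra
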