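import Cfsg.Agent.Lib.Blocks.ThreeExtra.Lattice

/-!
# Pairs of conjugate rows next to six nonzero rows
-/

namespace CfsgLib.Blocks.ThreeExtra.Lattice

open Finset

universe u v w

variable {I : Type u} [Fintype I] {R : Type v} [Fintype R] {Ω : Type w} [Fintype Ω]

/-- Columns, pairs of conjugate indices and vectors of norm three attached to the pairs. -/
structure Pairs (c : R → I → ℤ) (o : I) (σ : I → I) (D U : Ω → I → ℤ) : Prop where
  cols : Cols c o
  inv : ∀ i, σ (σ i) = i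
  sym : ∀ r i, c r (σ i) = c r i
  dnorm : ∀ ξ, ∑ i, D ξ i * D ξ i = 2
  dorth : ∀ ξ η, ξ ≠ η → ∑ i, D ξ i * D η i = 0
  danti : ∀ ξ i, D ξ (σ i) = - D ξ i
  unorm : ∀ ξ, ∑ i, U ξ i * U ξ i = 3
  ud : ∀ ξ, ∑ i, U ξ i * D ξ i = 1
  ud0 : ∀ ξ η, ξ ≠ η → ∑ i, U ξ i * D η i = 0
  uu : ∀ ξ η, ξ ≠ η → 9 * ∑ i, U ξ i * U η i =
    ∑ r, (∑ i, U ξ i * c r i) * (∑ i, U η i * c r i)
  uc : ∀ ξ, ∃ r, (∑ i, U ξ i * c r i = 3 ∨ ∑ i, U ξ i * c r i = -3) ∧
    ∀ s, s ≠ r → ∑ i, U ξ i * c s i = 0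
  full : ∀ i, (∀ r, c r i = 0) → (∀ ξ, D ξ i = 0) → ∃ ξ, U ξ i ≠ 0

theorem two_units [DecidableEq I] {f : I → ℤ} {s : Finset I} (h : ∑ i ∈ s, f i * f i = 2) :
    ∃ p w, p ∈ s ∧ w ∈ s ∧ p ≠ w ∧ (f p = 1 ∨ f p = -1) ∧ (f w = 1 ∨ f w = -1) ∧
      ∀ i ∈ s, i ≠ p → i ≠ w → f i = 0 := by
  classical
  have hle : ∀ i ∈ s, f i * f i ≤ 2 := fun i hi =>
    h ▸ single_le_sum (f := fun j => f j * f j) (fun j _ => mul_self_nonneg _) hi
  set T := s.filter fun i => f i ≠ 0 with hT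
  have h1 : ∀ i ∈ T, f i * f i = 1 := fun i hi => by
    obtain ⟨hi1, hi2⟩ := mem_filter.1 hi
    rcases sq_eq_one (hle i hi1) hi2 with e | e <;> rw [e] <;> norm_num
  have hc : (T.card : ℤ) = 2 := by
    rw [← h, ← sum_subset (filter_subset _ s) (fun i hi hn => by
      have : f i = 0 := by_contra fun e => hn (mem_filter.2 ⟨hi, e⟩)
      rw [this, zero_mul]), sum_congr rfl h1, sum_const, nsmul_eq_mul, mul_one]
  obtain ⟨p, w, hpw, hTe⟩ := card_eq_two.1 (by exact_mod_cast hc : T.card = 2)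
  have hp : p ∈ T := hTe ▸ mem_insert_self _ _
  have hw : w ∈ T := hTe ▸ mem_insert_of_mem (mem_singleton_self _)
  refine ⟨p, w, (mem_filter.1 hp).1, (mem_filter.1 hw).1, hpw,
    sq_eq_one (hle p (mem_filter.1 hp).1) (mem_filter.1 hp).2,
    sq_eq_one (hle w (mem_filter.1 hw).1) (mem_filter.1 hw).2, fun i hi hip hiw => ?_⟩
  by_contra hne
  have : i ∈ T := mem_filter.2 ⟨hi, hne⟩
  rw [hTe] at this
  simp [hip, hiw] at this

namespace Pairs

variable {c : R → I → ℤ} {o : I} {σ : I → I} {D U : Ω → I → ℤ} (h : Pairs c o σ D U)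

include h

theorem exists_ends (ξ : Ω) : ∃ a : I, σ a ≠ a ∧ D ξ a = 1 ∧ D ξ (σ a) = -1 ∧
    ∀ i, i ≠ a → i ≠ σ a → D ξ i = 0 := by
  classical
  obtain ⟨p, w, -, -, hpw, hp, hw, h0⟩ := two_units (s := univ) (h.dnorm ξ)
  have hwp : w = σ p := by
    by_contra hne
    have hσp : σ p ≠ p := fun e => by
      have := h.danti ξ p
      rw [e] at this
      omega
    have := h0 (σ p) (mem_univ _) hσp (Ne.symm hne)
    rw [h.danti ξ p] at this
    omega
  subst hwp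
  have hanti := h.danti ξ p
  rcases hp with e | e
  · exact ⟨p, Ne.symm hpw, e, by omega, fun i h1 h2 => h0 i (mem_univ _) h1 h2⟩
  · refine ⟨σ p, by rw [h.inv]; exact hpw, by omega, by rw [h.inv]; exact e, fun i h1 h2 => ?_⟩
    rw [h.inv] at h2
    exact h0 i (mem_univ _) h2 h1

theorem sum_D (ξ : Ω) {a : I} (ha : σ a ≠ a) (h1 : D ξ a = 1) (h2 : D ξ (σ a) = -1)
    (h0 : ∀ i, i ≠ a → i ≠ σ a → D ξ i = 0) (f : I → ℤ) :
    ∑ i, f i * D ξ i = f a - f (σ a) := by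
  classical
  rw [← add_sum_erase _ _ (mem_univ a),
    ← add_sum_erase (univ.erase a) _ (mem_erase.2 ⟨ha, mem_univ (σ a)⟩), h1, h2,
    sum_eq_zero (fun i hi => by
      obtain ⟨hi1, hi2⟩ := mem_erase.1 hi
      rw [h0 i (mem_erase.1 hi2).1 hi1, mul_zero])]
  ring

/-- There are six nonzero rows and one pair for each vector, with nothing else. -/
theorem main [DecidableEq I] {deg : I → ℤ} (hd1 : deg o = 1)
    (hdeg : ∀ r, ∑ i, c r i * deg i = 0) (hl : Fintype.card Ω + Fintype.card R = 6) :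
    (NZ c).card = 6 ∧ Fintype.card I = 6 + 2 * Fintype.card Ω := by
  classical
  choose a ha hD1 hD2 hD0 using h.exists_ends
  have hDsum := fun ξ => h.sum_D ξ (ha ξ) (hD1 ξ) (hD2 ξ) (hD0 ξ)
  set e : Ω → Finset I := fun ξ => {a ξ, σ (a ξ)} with he
  have hmem : ∀ {ξ : Ω} {i : I}, i ∈ e ξ ↔ (i = a ξ ∨ i = σ (a ξ)) := fun {ξ i} => by simp [he]
  have hσmem : ∀ {ξ : Ω} {i : I}, i ∈ e ξ → σ i ∈ e ξ := fun {ξ i} hi => by
    rcases hmem.1 hi with rfl | rfl
    · exact hmem.2 (Or.inr rfl)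
    · exact hmem.2 (Or.inl (h.inv _))
  have hσne : ∀ {ξ : Ω} {i : I}, i ∈ e ξ → σ i ≠ i := fun {ξ i} hi => by
    rcases hmem.1 hi with rfl | rfl
    · exact ha ξ
    · rw [h.inv]; exact Ne.symm (ha ξ)
  have hDne : ∀ {ξ : Ω} {i : I}, i ∈ e ξ → D ξ i = 1 ∨ D ξ i = -1 := fun {ξ i} hi => by
    rcases hmem.1 hi with rfl | rfl
    · exact Or.inl (hD1 ξ)
    · exact Or.inr (hD2 ξ)
  have hdisj : ∀ ξ η, ξ ≠ η → Disjoint (e ξ) (e η) := by
    intro ξ η hne
    rw [disjoint_left]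
    intro i hi hi'
    have h1 := h.dorth η ξ (Ne.symm hne)
    rw [hDsum ξ, h.danti η (a ξ)] at h1
    rcases hmem.1 hi with rfl | rfl
    · rcases hDne hi' with e1 | e1 <;> omega
    · have e2 := hσmem hi'
      rw [h.inv] at e2
      rcases hDne e2 with e1 | e1 <;> omega
  have hpairU : ∀ ξ η, ξ ≠ η → U ξ (a η) = U ξ (σ (a η)) := fun ξ η hne => by
    have h1 := h.ud0 ξ η hne
    rw [hDsum η] at h1
    omega
  -- the two units outside the pair
  have hrest : ∀ ξ, ∑ i ∈ univ \ e ξ, U ξ i * U ξ i = 2 := by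
    intro ξ
    have h1 := h.ud ξ
    rw [hDsum ξ] at h1
    have h2 := h.unorm ξ
    rw [← sum_sdiff (subset_univ (e ξ)), show ∑ i ∈ e ξ, U ξ i * U ξ i =
      U ξ (a ξ) * U ξ (a ξ) + U ξ (σ (a ξ)) * U ξ (σ (a ξ)) from sum_pair (Ne.symm (ha ξ))] at h2
    have h3 : 0 ≤ ∑ i ∈ univ \ e ξ, U ξ i * U ξ i := sum_nonneg fun i _ => mul_self_nonneg _
    set t := U ξ (σ (a ξ))
    rw [show U ξ (a ξ) = t + 1 by omega] at h2
    have h4 : -1 ≤ t ∧ t ≤ 0 := ⟨by nlinarith, by nlinarith⟩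
    rcases (show t = -1 ∨ t = 0 by omega) with e1 | e1 <;> rw [e1] at h2 <;> linarith
  set Q := univ.filter fun ξ => a ξ ∈ NZ c with hQdef
  have hrowpair : ∀ {ξ : Ω} {i : I}, i ∈ e ξ → ∀ r, c r i = c r (a ξ) := fun {ξ i} hi r => by
    rcases hmem.1 hi with rfl | rfl
    · rfl
    · exact h.sym r _
  have hNZpair : ∀ {ξ : Ω} {i : I}, i ∈ e ξ → (i ∈ NZ c ↔ ξ ∈ Q) := fun {ξ i} hi => by
    simp only [hQdef, mem_filter, mem_univ, true_and, mem_NZ, hrowpair hi]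
  -- a zero pair
  have hzero : ∀ ξ, ξ ∉ Q → ∃ r p w, p ≠ w ∧ (U ξ p = 1 ∨ U ξ p = -1) ∧
      (U ξ w = 1 ∨ U ξ w = -1) ∧ p ∈ Spec c r ∧ w ∈ NZ c ∧ w ∉ Spec c r ∧
      (∀ i, i ∈ NZ c → i ≠ p → i ≠ w → U ξ i = 0) ∧
      (∀ i, i ∉ e ξ → i ≠ p → i ≠ w → U ξ i = 0) ∧
      (∑ i, U ξ i * c r i = 3 ∨ ∑ i, U ξ i * c r i = -3) ∧
      ∀ s, ∑ i, U ξ i * c s i = U ξ p * c s p + U ξ w * c s w := by
    intro ξ hξ
    obtain ⟨p, w, hp, hw, hpw, hUp, hUw, h0⟩ := two_units (hrest ξ)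
    have hout : ∀ i, i ∈ NZ c → i ∈ univ \ e ξ := fun i hi =>
      mem_sdiff.2 ⟨mem_univ i, fun hie => hξ ((hNZpair hie).1 hi)⟩
    have hsum : ∀ s, ∑ i, U ξ i * c s i = U ξ p * c s p + U ξ w * c s w := by
      intro s
      rw [← sum_pair (f := fun i => U ξ i * c s i) hpw]
      refine (sum_subset (subset_univ _) fun i _ hi => ?_).symm
      simp only [mem_insert, mem_singleton, not_or] at hi
      by_cases hie : i ∈ e ξ
      · have : c s i = 0 := by
          by_contra hne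
          exact hξ ((hNZpair hie).1 (mem_NZ.2 ⟨s, hne⟩))
        rw [this, mul_zero]
      · rw [h0 i (mem_sdiff.2 ⟨mem_univ i, hie⟩) hi.1 hi.2, zero_mul]
    obtain ⟨r, hr, -⟩ := h.uc ξ
    have hr' := hr
    rw [hsum r] at hr'
    have key : (p ∈ Spec c r ∧ w ∈ NZ c ∧ w ∉ Spec c r) ∨
        (w ∈ Spec c r ∧ p ∈ NZ c ∧ p ∉ Spec c r) := by
      rcases hUp with e1 | e1 <;> rcases hUw with e2 | e2 <;> rw [e1, e2] at hr' <;>
        rcases h.cols.cases r p with e3 | e3 | e3 | e3 | e3 <;>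
        rcases h.cols.cases r w with e4 | e4 | e4 | e4 | e4 <;>
        first
        | (rw [e3, e4] at hr'; omega)
        | exact Or.inl ⟨mem_Spec.2 (by omega), mem_NZ.2 ⟨r, by omega⟩, fun hm => by
            rcases mem_Spec.1 hm with e5 | e5 <;> omega⟩
        | exact Or.inr ⟨mem_Spec.2 (by omega), mem_NZ.2 ⟨r, by omega⟩, fun hm => by
            rcases mem_Spec.1 hm with e5 | e5 <;> omega⟩
    rcases key with ⟨k1, k2, k3⟩ | ⟨k1, k2, k3⟩
    · exact ⟨r, p, w, hpw, hUp, hUw, k1, k2, k3, fun i hi => h0 i (hout i hi),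
        fun i hi => h0 i (mem_sdiff.2 ⟨mem_univ i, hi⟩), hr, hsum⟩
    · exact ⟨r, w, p, Ne.symm hpw, hUw, hUp, k1, k2, k3, fun i hi x y => h0 i (hout i hi) y x,
        fun i hi x y => h0 i (mem_sdiff.2 ⟨mem_univ i, hi⟩) y x, hr, fun s => by
          rw [hsum s, add_comm]⟩
  set QS := Q.biUnion e with hQSdef
  have hQS : QS.card = 2 * Q.card := by
    rw [hQSdef, card_biUnion fun ξ _ η _ hne => hdisj ξ η hne,
      sum_congr rfl (fun ξ _ => show (e ξ).card = 2 from card_pair (Ne.symm (ha ξ))),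
      sum_const, smul_eq_mul, mul_comm]
  have hQNZ : QS ⊆ NZ c := fun i hi => by
    obtain ⟨ξ, hξ, hie⟩ := mem_biUnion.1 hi
    exact (hNZpair hie).2 hξ
  rcases h.cols.shape hd1 hdeg with ⟨hR, hN, hS⟩ | ⟨hN, hS1, hS2⟩
  · exfalso
    have hQall : Q = univ := eq_univ_of_forall fun ξ => by
      by_contra hξ
      obtain ⟨r, p, w, -, -, -, hp, -⟩ := hzero ξ hξ
      rw [hS r] at hp
      exact notMem_empty _ hp
    have := card_le_card hQNZ
    rw [hQS, hQall, card_univ] at this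
    omega
  set S := univ.biUnion (Spec c) with hSdef
  have hScard : S.card = Fintype.card R := by
    rw [hSdef, card_biUnion fun r _ s _ hne => disjoint_iff_inter_eq_empty.2 (hS2 r s hne),
      sum_congr rfl (fun r _ => hS1 r), sum_const, smul_eq_mul, mul_one, card_univ]
  have hSNZ : S ⊆ NZ c := biUnion_subset.2 fun r _ => h.cols.spec_sub r
  have hSQ : Disjoint S QS := by
    rw [disjoint_left]
    intro i hi hi'
    obtain ⟨r, -, hr⟩ := mem_biUnion.1 hi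
    obtain ⟨ξ, -, hie⟩ := mem_biUnion.1 hi'
    have h2 : σ i ∈ Spec c r := mem_Spec.2 (by rw [h.sym]; exact mem_Spec.1 hr)
    exact hσne hie (card_le_one.1 (le_of_eq (hS1 r)) _ h2 _ hr)
  set W := NZ c \ (S ∪ QS) with hWdef
  have hW : W.card + Fintype.card R + 2 * Q.card = 6 := by
    rw [hWdef, card_sdiff_of_subset (union_subset hSNZ hQNZ), card_union_of_disjoint hSQ, hScard,
      hQS, hN]
    have := card_le_card (union_subset hSNZ hQNZ)
    rw [card_union_of_disjoint hSQ, hScard, hQS, hN] at this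
    omega
  choose r p w hpw hUp hUw hp hwNZ hwS hoN hoE hT hsum using hzero
  have hwW : ∀ ξ (hξ : ξ ∉ Q), w ξ hξ ∈ W := by
    intro ξ hξ
    refine mem_sdiff.2 ⟨hwNZ ξ hξ, fun hm => ?_⟩
    rcases mem_union.1 hm with hm | hm
    · obtain ⟨s, -, hs⟩ := mem_biUnion.1 hm
      have hsr : s ≠ r ξ hξ := fun e => hwS ξ hξ (e ▸ hs)
      obtain ⟨t, ht, ht0⟩ := h.uc ξ
      have htr : t = r ξ hξ := by
        by_contra hne
        have h1 := ht0 _ (Ne.symm hne)
        rcases hT ξ hξ with e | e <;> omega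
      have h0 := ht0 s (htr ▸ hsr)
      rw [hsum ξ hξ s] at h0
      have hps : p ξ hξ ∉ Spec c s := fun hm' =>
        notMem_empty _ ((hS2 s _ hsr) ▸ mem_inter.2 ⟨hm', hp ξ hξ⟩)
      rw [mem_Spec, not_or] at hps
      have hpne := h.cols.ne_zero (h.cols.spec_sub _ (hp ξ hξ)) s
      rcases hUp ξ hξ with e1 | e1 <;> rcases hUw ξ hξ with e2 | e2 <;> rw [e1, e2] at h0 <;>
        rcases h.cols.cases s (p ξ hξ) with e3 | e3 | e3 | e3 | e3 <;>
        rcases mem_Spec.1 hs with e4 | e4 <;> omega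
    · obtain ⟨η, hη, hwe⟩ := mem_biUnion.1 hm
      have hne : ξ ≠ η := fun e => hξ (e ▸ hη)
      have hU : U ξ (σ (w ξ hξ)) = U ξ (w ξ hξ) := by
        rcases hmem.1 hwe with e | e
        · rw [e]; exact (hpairU ξ η hne).symm
        · rw [e, h.inv]; exact hpairU ξ η hne
      have hσNZ : σ (w ξ hξ) ∈ NZ c := (hNZpair (hσmem hwe)).2 hη
      have hσp : σ (w ξ hξ) = p ξ hξ := by
        by_contra hne'
        have h0 := hoN ξ hξ _ hσNZ hne' (hσne hwe)
        rcases hUw ξ hξ with e | e <;> omega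
      exact disjoint_left.1 hSQ (mem_biUnion.2 ⟨_, mem_univ _, hp ξ hξ⟩)
        (hσp ▸ mem_biUnion.2 ⟨η, hη, hσmem hwe⟩)
  have hinj : ∀ ξ (hξ : ξ ∉ Q) η (hη : η ∉ Q), w ξ hξ = w η hη → ξ = η := by
    intro ξ hξ η hη heq
    by_contra hne
    have hp1 := hp ξ hξ
    have hp2 := hp η hη
    have hNp1 := h.cols.spec_sub _ hp1
    have hNp2 := h.cols.spec_sub _ hp2
    -- the product of the two vectors lives on the nonzero rows
    have hprod : ∑ i, U ξ i * U η i = U ξ (p ξ hξ) * U η (p ξ hξ) + U ξ (w ξ hξ) * U η (w ξ hξ) := by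
      rw [← sum_pair (f := fun i => U ξ i * U η i) (hpw ξ hξ)]
      refine (sum_subset (subset_univ _) fun i _ hi => ?_).symm
      simp only [mem_insert, mem_singleton, not_or] at hi
      by_cases hie : i ∈ e ξ
      · have hie' : i ∉ e η := disjoint_left.1 (hdisj ξ η hne) hie
        have hiN : i ∉ NZ c := fun hm => hξ ((hNZpair hie).1 hm)
        rw [hoE η hη i hie' (fun e => hiN (e ▸ hNp2)) (fun e => hiN (e ▸ hwNZ η hη)), mul_zero]
      · rw [hoE ξ hξ i hie hi.1 hi.2, zero_mul]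
    have huu := h.uu ξ η hne
    rw [hprod] at huu
    by_cases hr : r ξ hξ = r η hη
    · have hpp : p ξ hξ = p η hη :=
        card_le_one.1 (le_of_eq (hS1 _)) _ hp1 _ (hr ▸ hp2)
      obtain ⟨t, ht, ht0⟩ := h.uc ξ
      have htr : t = r ξ hξ := by
        by_contra hne'
        have h1 := ht0 _ (Ne.symm hne')
        rcases hT ξ hξ with e | e <;> omega
      rw [sum_eq_single (r ξ hξ) (fun s _ hs => by rw [ht0 s (htr ▸ hs), zero_mul]) (by simp),
        hpp, heq] at huu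
      have hA := hT ξ hξ
      have hB := hT η hη
      rw [← hr] at hB
      rw [hsum ξ hξ, hpp, heq] at hA
      rw [hsum η hη] at hB
      rw [hsum ξ hξ, hsum η hη, hpp, heq] at huu
      have hc1 := mem_Spec.1 hp2
      rw [← hr] at hc1
      have hc2 := h.cols.cases (r ξ hξ) (w η hη)
      have hw1 := hUw ξ hξ
      have hw2 := hUw η hη
      have hq1 := hUp ξ hξ
      have hq2 := hUp η hη
      rw [hpp] at hq1
      rw [heq] at hw1
      rcases hq1 with e1 | e1 <;> rcases hw1 with e2 | e2 <;> rcases hq2 with e3 | e3 <;>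
        rcases hw2 with e4 | e4 <;> rw [e1, e2, e3, e4] at huu <;> rw [e1, e2] at hA <;>
        rw [e3, e4] at hB <;> rcases hc1 with e5 | e5 <;>
        rcases hc2 with e6 | e6 | e6 | e6 | e6 <;> rw [e5, e6] at huu hA hB <;> omega
    · have hpp : p ξ hξ ≠ p η hη := fun e =>
        notMem_empty _ ((hS2 _ _ hr) ▸ mem_inter.2 ⟨hp1, e ▸ hp2⟩)
      have h0 : U η (p ξ hξ) = 0 := hoN η hη _ hNp1 hpp
        (heq ▸ hpw ξ hξ)
      have hTz : ∀ s, (∑ i, U ξ i * c s i) * (∑ i, U η i * c s i) = 0 := by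
        intro s
        obtain ⟨t, ht, ht0⟩ := h.uc ξ
        obtain ⟨t', ht', ht0'⟩ := h.uc η
        have htr : t = r ξ hξ := by
          by_contra hne'
          have h1 := ht0 _ (Ne.symm hne')
          rcases hT ξ hξ with e | e <;> omega
        have htr' : t' = r η hη := by
          by_contra hne'
          have h1 := ht0' _ (Ne.symm hne')
          rcases hT η hη with e | e <;> omega
        by_cases hs : s = r ξ hξ
        · rw [ht0' s (by rw [hs, htr']; exact hr), mul_zero]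
        · rw [ht0 s (htr ▸ hs), zero_mul]
      rw [sum_eq_zero (fun s _ => hTz s), h0, mul_zero, zero_add, heq] at huu
      have hw1 := hUw ξ hξ
      rw [heq] at hw1
      rcases hw1 with e1 | e1 <;> rcases hUw η hη with e2 | e2 <;> rw [e1, e2] at huu <;>
        norm_num at huu
  have hle : (univ \ Q).card ≤ W.card :=
    card_le_card_of_injOn (fun ξ => if hξ : ξ ∈ Q then o else w ξ hξ)
      (fun ξ hξ => by
        have hξ' := (mem_sdiff.1 (Finset.mem_coe.1 hξ)).2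
        simp only [dif_neg hξ']
        exact Finset.mem_coe.2 (hwW ξ hξ'))
      (fun ξ hξ η hη heq => by
        have hξ' := (mem_sdiff.1 (Finset.mem_coe.1 hξ)).2
        have hη' := (mem_sdiff.1 (Finset.mem_coe.1 hη)).2
        simp only [dif_neg hξ', dif_neg hη'] at heq
        exact hinj ξ hξ' η hη' heq)
  rw [card_sdiff_of_subset (subset_univ Q), card_univ] at hle
  have hq0 : Q.card = 0 := by
    have := card_le_univ Q
    omega
  refine ⟨hN, ?_⟩
  have hQe := card_eq_zero.1 hq0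
  have hall : (univ : Finset I) = NZ c ∪ univ.biUnion e := by
    refine (eq_univ_of_forall fun i => ?_).symm
    rw [mem_union]
    by_contra hcon
    push Not at hcon
    have hi0 : ∀ s, c s i = 0 := fun s => by_contra fun e => hcon.1 (mem_NZ.2 ⟨s, e⟩)
    have hiE : ∀ ξ, i ∉ e ξ := fun ξ hm => hcon.2 (mem_biUnion.2 ⟨ξ, mem_univ _, hm⟩)
    obtain ⟨ξ, hξ⟩ := h.full i hi0 fun ξ => hD0 ξ i
      (fun e1 => hiE ξ (hmem.2 (Or.inl e1))) (fun e1 => hiE ξ (hmem.2 (Or.inr e1)))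
    have hξQ : ξ ∉ Q := by rw [hQe]; exact notMem_empty _
    exact hξ (hoE ξ hξQ i (hiE ξ) (fun e1 => hcon.1 (e1 ▸ h.cols.spec_sub _ (hp ξ hξQ)))
      (fun e1 => hcon.1 (e1 ▸ hwNZ ξ hξQ)))
  rw [← card_univ, hall, card_union_of_disjoint, hN, card_biUnion fun ξ _ η _ hne => hdisj ξ η hne,
    sum_congr rfl (fun ξ _ => show (e ξ).card = 2 from card_pair (Ne.symm (ha ξ))), sum_const,
    smul_eq_mul, card_univ, mul_comm]
  rw [disjoint_left]
  intro i hi hi'
  obtain ⟨ξ, -, hie⟩ := mem_biUnion.1 hi'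
  have := (hNZpair hie).1 hi
  rw [hQe] at this
  exact notMem_empty _ this

end Pairs

end CfsgLib.Blocks.ThreeExtra.Lattice
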