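import Cfsg.Prelude.Def_Transfer
import Cfsg.Agent.Lib.PComplement

/-!
# Fusion in a group with extraspecial Sylow 3-subgroup of order 27 and central normaliser
-/

namespace CfsgLib.Blocks.ThreeExtra

open Cfsg Subgroup

universe u

variable {G : Type u} [Group G]

/-- The Sylow subgroup `P` with centre `⟨z⟩`, whose normaliser centralises `z`. -/
structure Setup (P : Sylow 3 G) (z : G) : Prop where
  card : Nat.card (P : Subgroup G) = 27
  exp : ∀ x ∈ (P : Subgroup G), x ^ 3 = 1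
  mem : z ∈ (P : Subgroup G)
  ne : z ≠ 1
  cent : ∀ y ∈ (P : Subgroup G), z * y = y * z
  only : ∀ v ∈ (P : Subgroup G), (∀ y ∈ (P : Subgroup G), v * y = y * v) → v ∈ zpowers z
  comm : ∀ a ∈ (P : Subgroup G), ∀ b ∈ (P : Subgroup G), a * b * a⁻¹ * b⁻¹ ∈ zpowers z
  norm : ∀ n ∈ Subgroup.normalizer ((P : Subgroup G) : Set G), n * z = z * n

/-- An element of the Sylow subgroup outside its centre. -/
def Out (P : Sylow 3 G) (z x : G) : Prop := x ∈ (P : Subgroup G) ∧ x ∉ zpowers z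

/-- The centraliser of `x` in the Sylow subgroup. -/
def Ex (P : Sylow 3 G) (x : G) : Subgroup G := (P : Subgroup G) ⊓ centralizer ({x} : Set G)

/-- The product of the Sylow subgroup and its centraliser. -/
def PC (P : Sylow 3 G) : Subgroup G := (P : Subgroup G) ⊔ centralizer ((P : Subgroup G) : Set G)

theorem mem_Ex {P : Sylow 3 G} {x y : G} :
    y ∈ Ex P x ↔ y ∈ (P : Subgroup G) ∧ y * x = x * y := by
  rw [Ex, mem_inf, mem_centralizer_singleton_iff]

theorem mem_zpowers_cases {z v : G} (hz : z ^ 3 = 1) (hv : v ∈ zpowers z) :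
    v = 1 ∨ v = z ∨ v = z⁻¹ := by
  obtain ⟨k, rfl⟩ := mem_zpowers_iff.1 hv
  have h3 : (z : G) ^ (3 : ℤ) = 1 := by
    rw [show (3 : ℤ) = ((3 : ℕ) : ℤ) from rfl, zpow_natCast, hz]
  rw [← Int.mul_ediv_add_emod k 3, zpow_add, zpow_mul, h3, one_zpow, one_mul]
  rcases (show k % 3 = 0 ∨ k % 3 = 1 ∨ k % 3 = 2 by omega) with h | h | h <;> rw [h]
  · exact Or.inl (zpow_zero z)
  · exact Or.inr (Or.inl (zpow_one z))
  · refine Or.inr (Or.inr (eq_inv_of_mul_eq_one_left ?_))
    rw [show (2 : ℤ) = ((2 : ℕ) : ℤ) from rfl, zpow_natCast, ← pow_succ, hz]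

/-- Frattini argument for a subgroup containing `P` and a conjugate of it. -/
theorem exists_mul_mem_normalizer [Finite G] (P : Sylow 3 G) {L : Subgroup G}
    (hP : (P : Subgroup G) ≤ L) {g : G} (hg : ∀ y ∈ (P : Subgroup G), g * y * g⁻¹ ∈ L) :
    ∃ l ∈ L, l * g ∈ Subgroup.normalizer ((P : Subgroup G) : Set G) := by
  have hgP : ((g • P : Sylow 3 G) : Subgroup G) ≤ L := by
    intro y hy
    rw [Sylow.coe_subgroup_smul, mem_pointwise_smul_iff_inv_smul_mem] at hy
    have h := hg _ hy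
    simpa [mul_assoc] using h
  obtain ⟨l, hl⟩ := MulAction.exists_smul_eq L ((g • P).subtype hgP) (P.subtype hP)
  refine ⟨l, l.2, ?_⟩
  refine Sylow.smul_eq_iff_mem_normalizer.1 ?_
  have h' := (Sylow.smul_subtype hgP l).symm.trans hl
  rw [mul_smul]
  exact Sylow.subtype_injective h'

namespace Setup

variable {P : Sylow 3 G} {z : G} (S : Setup P z)

include S

theorem z_pow : z ^ 3 = 1 := S.exp z S.mem

theorem order_z : orderOf z = 3 := by
  haveI : Fact (Nat.Prime 3) := ⟨Nat.prime_three⟩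
  exact orderOf_eq_prime S.z_pow S.ne

theorem card_zpowers : Nat.card (zpowers z) = 3 := by rw [Nat.card_zpowers, S.order_z]

theorem inv_ne : z⁻¹ ≠ z := by
  intro h
  have h2 : z ^ 2 = 1 := by rw [sq]; nth_rw 1 [← h]; exact inv_mul_cancel z
  exact S.ne (by
    have h3 := S.z_pow
    rwa [pow_succ, h2, one_mul] at h3)

theorem zpowers_le : zpowers z ≤ (P : Subgroup G) := Subgroup.zpowers_le.2 S.mem

theorem out_ne_one {x : G} (hx : Out P z x) : x ≠ 1 := fun h => hx.2 (h ▸ one_mem _)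

theorem out_inv {x : G} (hx : Out P z x) : Out P z x⁻¹ :=
  ⟨inv_mem hx.1, fun h => hx.2 (by simpa using inv_mem h)⟩

theorem out_commute {x : G} (hx : Out P z x) : Commute x z := (S.cent x hx.1).symm

theorem out_mul_z {x v : G} (hx : Out P z x) (hv : v ∈ zpowers z) : Out P z (x * v) :=
  ⟨mul_mem hx.1 (S.zpowers_le hv), fun h => hx.2 (by simpa using mul_mem h (inv_mem hv))⟩

/-- The centraliser of an outside element in `P` has order nine. -/
theorem card_Ex [Finite G] {x : G} (hx : Out P z x) : Nat.card (Ex P x) = 9 := by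
  have hle : Ex P x ≤ (P : Subgroup G) := inf_le_left
  have hd : Nat.card (Ex P x) ∣ 3 ^ 3 := by
    rw [show 3 ^ 3 = 27 by norm_num, ← S.card]; exact card_dvd_of_le hle
  have hlt : Nat.card (Ex P x) ≠ 27 := by
    intro h
    have heq : Ex P x = (P : Subgroup G) := eq_of_le_of_card_ge hle (by rw [h, S.card])
    exact hx.2 (S.only x hx.1 fun y hy => (mem_Ex.1 (heq.symm ▸ hy : y ∈ Ex P x)).2.symm)
  have hgt : 3 < Nat.card (Ex P x) := by
    have hzle : zpowers z < Ex P x := lt_of_le_of_ne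
      (fun v hv => mem_Ex.2 ⟨S.zpowers_le hv, by
        rcases mem_zpowers_cases S.z_pow hv with rfl | rfl | rfl
        · simp
        · exact S.cent x hx.1
        · exact (S.out_commute hx).inv_right.eq.symm⟩)
      fun e => hx.2 (e.symm ▸ mem_Ex.2 ⟨hx.1, rfl⟩ : x ∈ zpowers z)
    rw [← S.card_zpowers]
    exact Set.ncard_lt_ncard (SetLike.coe_ssubset_coe.2 hzle) (Set.toFinite _) |>.trans_eq' (by
      rfl)
  obtain ⟨i, hi, he⟩ := (Nat.dvd_prime_pow Nat.prime_three).1 hd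
  interval_cases i <;> omega

/-- An element commuting with `z` and `x` centralises `C_P(x)`. -/
theorem centralizes_Ex [Finite G] {x : G} (hx : Out P z x) {n : G} (hnz : n * z = z * n)
    (hnx : n * x = x * n) {y : G} (hy : y ∈ Ex P x) : n * y = y * n := by
  set U := (centralizer ({n} : Set G)) ⊓ Ex P x
  have hzU : z ∈ U := ⟨mem_centralizer_singleton_iff.2 hnz.symm,
    mem_Ex.2 ⟨S.mem, S.cent x hx.1⟩⟩
  have hxU : x ∈ U := ⟨mem_centralizer_singleton_iff.2 hnx.symm, mem_Ex.2 ⟨hx.1, rfl⟩⟩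
  have hlt : zpowers z < U := lt_of_le_of_ne (Subgroup.zpowers_le.2 hzU)
    fun e => hx.2 (e.symm ▸ hxU)
  have h3 : 3 < Nat.card U := by
    rw [← S.card_zpowers]
    exact Set.ncard_lt_ncard (SetLike.coe_ssubset_coe.2 hlt) (Set.toFinite _)
  have hd : Nat.card U ∣ 3 ^ 2 := by
    rw [show 3 ^ 2 = 9 by norm_num, ← S.card_Ex hx]; exact card_dvd_of_le inf_le_right
  have hU : U = Ex P x := eq_of_le_of_card_ge inf_le_right (by
    obtain ⟨i, hi, he⟩ := (Nat.dvd_prime_pow Nat.prime_three).1 hd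
    rw [S.card_Ex hx]
    interval_cases i <;> omega)
  exact (mem_centralizer_singleton_iff.1 (hU.symm ▸ hy : y ∈ U).1).symm

/-- All the translates of an outside element by `⟨z⟩` are conjugates under `P`. -/
theorem exists_conj_mul {x : G} (hx : Out P z x) {v : G} (hv : v ∈ zpowers z) :
    ∃ y ∈ (P : Subgroup G), y * x * y⁻¹ = x * v := by
  obtain ⟨y, hy, hyx⟩ : ∃ y ∈ (P : Subgroup G), x * y ≠ y * x := by
    by_contra h
    push Not at h
    exact hx.2 (S.only x hx.1 h)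
  obtain ⟨c, hc⟩ : ∃ c, c = y * x * y⁻¹ * x⁻¹ := ⟨_, rfl⟩
  have hcz : c ∈ zpowers z := hc ▸ S.comm y hy x hx.1
  have hc1 : c ≠ 1 := fun h => hyx (by
    rw [hc, mul_inv_eq_one, mul_inv_eq_iff_eq_mul] at h
    exact h.symm)
  have hyc : Commute y c := by
    rcases mem_zpowers_cases S.z_pow hcz with h | h | h <;> rw [h]
    · exact Commute.one_right y
    · exact (S.cent y hy).symm
    · exact (show Commute y z from (S.cent y hy).symm).inv_right
  have h1 : y * x * y⁻¹ = c * x := by rw [hc]; group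
  have h2 : (y ^ 2) * x * (y ^ 2)⁻¹ = c * c * x := by
    calc (y ^ 2) * x * (y ^ 2)⁻¹ = y * (y * x * y⁻¹) * y⁻¹ := by rw [sq]; group
      _ = y * c * (x * y⁻¹) := by rw [h1]; group
      _ = c * (y * x * y⁻¹) := by rw [hyc.eq]; group
      _ = c * c * x := by rw [h1, mul_assoc]
  have hcx : Commute c x := by
    rcases mem_zpowers_cases S.z_pow hcz with h | h | h <;> rw [h]
    · exact Commute.one_left x
    · exact S.cent x hx.1
    · exact (S.out_commute hx).inv_right.symm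
  have hz3 := S.z_pow
  have hzz : z * z = z⁻¹ := eq_inv_of_mul_eq_one_left (by rw [← sq, ← pow_succ]; exact hz3)
  have hzz' : z⁻¹ * z⁻¹ = z := by rw [← _root_.mul_inv_rev, hzz, inv_inv]
  rcases mem_zpowers_cases S.z_pow hv with rfl | hv' | hv'
  · exact ⟨1, one_mem _, by simp⟩
  all_goals
    rw [hv']
    rcases mem_zpowers_cases S.z_pow hcz with h | h | h
  · exact absurd h hc1
  · exact ⟨y, hy, by rw [h1, hcx.eq, h]⟩
  · exact ⟨y ^ 2, pow_mem hy 2, by rw [h2, (hcx.mul_left hcx).eq, h, hzz']⟩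
  · exact absurd h hc1
  · exact ⟨y ^ 2, pow_mem hy 2, by rw [h2, (hcx.mul_left hcx).eq, h, hzz]⟩
  · exact ⟨y, hy, by rw [h1, hcx.eq, h]⟩

variable [Finite G]

/-- The centre is weakly closed. -/
theorem weak {g : G} (hg : g * z * g⁻¹ ∈ (P : Subgroup G)) : g * z * g⁻¹ = z := by
  have hPz : (P : Subgroup G) ≤ centralizer ({z} : Set G) := fun y hy =>
    mem_centralizer_singleton_iff.2 (S.cent y hy).symm
  have caseA : ∀ h : G, h * z * h⁻¹ ≠ z⁻¹ := by
    intro h he
    obtain ⟨l, hl, hln⟩ := exists_mul_mem_normalizer P hPz (g := h) (fun y hy => by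
      refine mem_centralizer_singleton_iff.2 ?_
      have e1 : Commute (h * y * h⁻¹) (h * z * h⁻¹) :=
        (show Commute y z from (S.cent y hy).symm).map (MulAut.conj h).toMonoidHom
      rw [he] at e1
      simpa using e1.inv_right.eq)
    have h1 := S.norm _ hln
    have h2 : l * (h * z * h⁻¹) * l⁻¹ = z := by
      rw [show l * (h * z * h⁻¹) * l⁻¹ = l * h * z * (l * h)⁻¹ by group, h1]; group
    rw [he] at h2
    have h3 : Commute l z⁻¹ :=
      (show Commute l z from mem_centralizer_singleton_iff.1 hl).inv_right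
    rw [h3.eq, mul_inv_cancel_right] at h2
    exact S.inv_ne h2
  by_cases hxz : g * z * g⁻¹ ∈ zpowers z
  · rcases mem_zpowers_cases S.z_pow hxz with h | h | h
    · exact absurd (conj_eq_one_iff.1 h) S.ne
    · exact h
    · exact absurd h (caseA g)
  exfalso
  obtain ⟨x, hxdef⟩ : ∃ x, x = g * z * g⁻¹ := ⟨_, rfl⟩
  rw [← hxdef] at hg hxz
  have hx : Out P z x := ⟨hg, hxz⟩
  -- arrange that `z` lies in a Sylow subgroup with centre `x`
  haveI : Fact (Nat.Prime 3) := ⟨Nat.prime_three⟩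
  set C := centralizer ({x} : Set G) with hC
  have hzC : z ∈ C := mem_centralizer_singleton_iff.2 (S.cent x hx.1)
  have hgC : ((g • P : Sylow 3 G) : Subgroup G) ≤ C := by
    intro y hy
    rw [Sylow.coe_subgroup_smul, mem_pointwise_smul_iff_inv_smul_mem] at hy
    refine mem_centralizer_singleton_iff.2 ?_
    have e1 := (show Commute _ z from (S.cent _ hy).symm).map (MulAut.conj g).toMonoidHom
    simpa [hxdef, mul_assoc] using e1.eq
  have hzp : IsPGroup 3 (zpowers (⟨z, hzC⟩ : C)) := by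
    refine IsPGroup.iff_card.2 ⟨1, ?_⟩
    rw [Nat.card_zpowers, ← Subgroup.orderOf_coe, pow_one]
    exact S.order_z
  obtain ⟨Q, hQ⟩ := hzp.exists_le_sylow
  obtain ⟨c, hc⟩ := MulAction.exists_smul_eq C Q ((g • P).subtype hgC)
  obtain ⟨g', hg'⟩ : ∃ g', g' = (c : G)⁻¹ * g := ⟨_, rfl⟩
  have hx' : g' * z * g'⁻¹ = x := by
    have hcx : Commute (c : G) x := mem_centralizer_singleton_iff.1 c.2
    rw [hg', show (c : G)⁻¹ * g * z * ((c : G)⁻¹ * g)⁻¹ = (c : G)⁻¹ * x * (c : G) by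
      rw [hxdef]; group, mul_assoc, ← hcx.eq, inv_mul_cancel_left]
  have hv : g'⁻¹ * z * g' ∈ (P : Subgroup G) := by
    have h1 : MulAut.conj c • (⟨z, hzC⟩ : C) ∈ ((c • Q : Sylow 3 C) : Subgroup C) := by
      rw [Sylow.coe_subgroup_smul]
      exact smul_mem_pointwise_smul _ _ _ (hQ (Subgroup.mem_zpowers _))
    rw [hc, Sylow.coe_subtype, mem_subgroupOf, Sylow.coe_subgroup_smul,
      mem_pointwise_smul_iff_inv_smul_mem] at h1
    simpa [hg', mul_assoc] using h1
  obtain ⟨v, hvdef⟩ : ∃ v, v = g'⁻¹ * z * g' := ⟨_, rfl⟩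
  rw [← hvdef] at hv
  have hv' : Out P z v := by
    refine ⟨hv, fun h => ?_⟩
    have e : z = g' * v * g'⁻¹ := by rw [hvdef]; group
    rcases mem_zpowers_cases S.z_pow h with h | h | h <;> rw [h] at e
    · exact S.ne (by simpa using e)
    · exact hxz (by rw [← hx', ← e]; exact mem_zpowers z)
    · exact hxz (by
        rw [← hx']
        have e2 : g' * z * g'⁻¹ = z⁻¹ := by
          rw [show g' * z * g'⁻¹ = (g' * z⁻¹ * g'⁻¹)⁻¹ by group, ← e]
        rw [e2]; exact inv_mem (mem_zpowers z))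
  obtain ⟨p, hp, hpx⟩ := S.exists_conj_mul hx (mem_zpowers z)
  obtain ⟨p', hp', hpv⟩ := S.exists_conj_mul hv' (mem_zpowers z)
  obtain ⟨q, hqdef⟩ : ∃ q, q = g' * p' * g'⁻¹ := ⟨_, rfl⟩
  have hqz : q * z * q⁻¹ = z * x := by
    calc q * z * q⁻¹ = g' * (p' * v * p'⁻¹) * g'⁻¹ := by rw [hqdef, hvdef]; group
      _ = g' * v * g'⁻¹ * (g' * z * g'⁻¹) := by rw [hpv]; group
      _ = z * x := by rw [hx', hvdef]; group
  have hqx : q * x * q⁻¹ = x := by
    calc q * x * q⁻¹ = g' * (p' * z * p'⁻¹) * g'⁻¹ := by rw [hqdef, ← hx']; group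
      _ = g' * z * g'⁻¹ := by rw [← S.cent p' hp', mul_inv_cancel_right]
      _ = x := hx'
  have hpz : p * z * p⁻¹ = z := by rw [← S.cent p hp, mul_inv_cancel_right]
  have hqz' : q⁻¹ * z * q = z * x⁻¹ := by
    have e1 : q⁻¹ * (z * x) * q = z := by rw [← hqz]; group
    have e2 : q⁻¹ * x * q = x := by
      conv_lhs => rw [← hqx]
      group
    calc q⁻¹ * z * q = q⁻¹ * (z * x) * q * (q⁻¹ * x * q)⁻¹ := by group
      _ = z * x⁻¹ := by rw [e1, e2]
  have hqx' : q⁻¹ * x * q = x := by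
    conv_lhs => rw [← hqx]
    group
  have hzx : Commute z x := S.cent x hx.1
  obtain ⟨w, hwdef⟩ : ∃ w, w = p * q⁻¹ * p := ⟨_, rfl⟩
  have hwx : w * x * w⁻¹ = z := by
    calc w * x * w⁻¹ = p * (q⁻¹ * (p * x * p⁻¹) * q) * p⁻¹ := by rw [hwdef]; group
      _ = p * ((q⁻¹ * x * q) * (q⁻¹ * z * q)) * p⁻¹ := by rw [hpx]; group
      _ = p * z * p⁻¹ := by
        rw [hqx', hqz', ← mul_assoc x z, ← hzx.eq, mul_inv_cancel_right]
      _ = z := hpz
  have hwz : w * z * w⁻¹ = x⁻¹ := by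
    calc w * z * w⁻¹ = p * (q⁻¹ * (p * z * p⁻¹) * q) * p⁻¹ := by rw [hwdef]; group
      _ = p * (q⁻¹ * z * q) * p⁻¹ := by rw [hpz]
      _ = p * (z * x⁻¹) * p⁻¹ := by rw [hqz']
      _ = (p * z * p⁻¹) * (p * x * p⁻¹)⁻¹ := by group
      _ = x⁻¹ := by
        rw [hpz, hpx, hzx.symm.eq, _root_.mul_inv_rev, ← mul_assoc, hzx.inv_right.eq, mul_assoc,
          mul_inv_cancel, mul_one]
  obtain ⟨t, htdef⟩ : ∃ t, t = w * w := ⟨_, rfl⟩
  have htx : t * x * t⁻¹ = x⁻¹ := by
    calc t * x * t⁻¹ = w * (w * x * w⁻¹) * w⁻¹ := by rw [htdef]; group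
      _ = x⁻¹ := by rw [hwx, hwz]
  have htz : t * z * t⁻¹ = z⁻¹ := by
    calc t * z * t⁻¹ = w * (w * z * w⁻¹) * w⁻¹ := by rw [htdef]; group
      _ = (w * x * w⁻¹)⁻¹ := by rw [hwz]; group
      _ = z⁻¹ := by rw [hwx]
  set L := (P : Subgroup G) ⊔ centralizer ({z, x} : Set G) with hL
  have hLz : L ≤ centralizer ({z} : Set G) :=
    sup_le hPz (centralizer_le (by simp))
  obtain ⟨l, hl, hln⟩ := exists_mul_mem_normalizer P (le_sup_left : _ ≤ L) (g := t) (fun y hy => by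
    obtain ⟨d, hd, hyd⟩ : ∃ d ∈ zpowers z, y * x * y⁻¹ = d * x :=
      ⟨_, S.comm y hy x hx.1, by group⟩
    have hdz : Commute d z := by
      obtain ⟨k, rfl⟩ := mem_zpowers_iff.1 hd
      exact (Commute.refl z).zpow_left k
    have hdx : Commute d x := by
      obtain ⟨k, rfl⟩ := mem_zpowers_iff.1 hd
      exact hzx.zpow_left k
    have htd : t * d * t⁻¹ = d⁻¹ := by
      obtain ⟨k, rfl⟩ := mem_zpowers_iff.1 hd
      rw [← conj_zpow, htz, inv_zpow]
    -- `t y t⁻¹` moves `z` and `x` exactly as `y` does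
    have hyz : y * z * y⁻¹ = z := by rw [← S.cent y hy, mul_inv_cancel_right]
    have a1 : (t * y * t⁻¹) * z * (t * y * t⁻¹)⁻¹ = z := by
      calc (t * y * t⁻¹) * z * (t * y * t⁻¹)⁻¹
          = t * (y * (t⁻¹ * z * t) * y⁻¹) * t⁻¹ := by group
        _ = t * (y * z * y⁻¹)⁻¹ * t⁻¹ := by
          rw [show t⁻¹ * z * t = z⁻¹ by
            rw [show z⁻¹ = t⁻¹ * (t * z⁻¹ * t⁻¹) * t by group,
              show t * z⁻¹ * t⁻¹ = (t * z * t⁻¹)⁻¹ by group, htz, inv_inv]]
          group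
        _ = (t * z * t⁻¹)⁻¹ := by rw [hyz]; group
        _ = z := by rw [htz, inv_inv]
    have a2 : (t * y * t⁻¹) * x * (t * y * t⁻¹)⁻¹ = d * x := by
      calc (t * y * t⁻¹) * x * (t * y * t⁻¹)⁻¹
          = t * (y * (t⁻¹ * x * t) * y⁻¹) * t⁻¹ := by group
        _ = t * (y * x * y⁻¹)⁻¹ * t⁻¹ := by
          rw [show t⁻¹ * x * t = x⁻¹ by
            rw [show x⁻¹ = t⁻¹ * (t * x⁻¹ * t⁻¹) * t by group,
              show t * x⁻¹ * t⁻¹ = (t * x * t⁻¹)⁻¹ by group, htx, inv_inv]]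
          group
        _ = (t * x * t⁻¹)⁻¹ * (t * d * t⁻¹)⁻¹ := by rw [hyd]; group
        _ = d * x := by rw [htx, htd, inv_inv, inv_inv, hdx.eq]
    have a3 : y⁻¹ * (t * y * t⁻¹) ∈ centralizer ({z, x} : Set G) := by
      have key : ∀ s r : G, y * s * y⁻¹ = r → (t * y * t⁻¹) * s * (t * y * t⁻¹)⁻¹ = r →
          s * (y⁻¹ * (t * y * t⁻¹)) = y⁻¹ * (t * y * t⁻¹) * s := by
        intro s r e1 e2
        have e3 : y⁻¹ * ((t * y * t⁻¹) * s * (t * y * t⁻¹)⁻¹) * y = s := by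
          rw [e2, ← e1]; group
        calc s * (y⁻¹ * (t * y * t⁻¹))
            = y⁻¹ * ((t * y * t⁻¹) * s * (t * y * t⁻¹)⁻¹) * y * (y⁻¹ * (t * y * t⁻¹)) := by rw [e3]
          _ = _ := by group
      intro s hs
      rcases hs with rfl | rfl
      · exact key _ _ hyz a1
      · exact key _ _ hyd a2
    have := L.mul_mem (le_sup_left (b := centralizer ({z, x} : Set G)) hy)
      (le_sup_right (a := (P : Subgroup G)) a3)
    simpa [mul_assoc] using this)
  have h1 := S.norm _ hln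
  have h2 : l * (t * z * t⁻¹) * l⁻¹ = z := by
    rw [show l * (t * z * t⁻¹) * l⁻¹ = l * t * z * (l * t)⁻¹ by group, h1]; group
  have hlz : Commute l z⁻¹ :=
    (show Commute l z from mem_centralizer_singleton_iff.1 (hLz hl)).inv_right
  rw [htz, hlz.eq, mul_inv_cancel_right] at h2
  exact S.inv_ne h2

/-- Conjugates in `P` of outside elements are outside. -/
theorem out_conj {u : G} (hu : Out P z u) {g : G} (hg : g * u * g⁻¹ ∈ (P : Subgroup G)) :
    Out P z (g * u * g⁻¹) := by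
  refine ⟨hg, fun h => ?_⟩
  rcases mem_zpowers_cases S.z_pow h with h | h | h
  · exact S.out_ne_one hu (conj_eq_one_iff.1 h)
  · have e : g⁻¹ * z * g⁻¹⁻¹ = u := by rw [← h]; group
    have h1 := S.weak (g := g⁻¹) (e ▸ hu.1)
    exact hu.2 ((e.symm.trans h1) ▸ mem_zpowers z)
  · have e : g⁻¹ * z * g⁻¹⁻¹ = u⁻¹ := by rw [show z = (z⁻¹)⁻¹ by simp, ← h]; group
    have h1 := S.weak (g := g⁻¹) (e ▸ inv_mem hu.1)
    exact (S.out_inv hu).2 ((e.symm.trans h1) ▸ mem_zpowers z)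

/-- A Sylow subgroup of the centraliser of an outside element has order nine. -/
theorem card_sylow_centralizer {x : G} (hx : Out P z x)
    (Q : Sylow 3 (centralizer ({x} : Set G))) : Nat.card Q = 9 := by
  haveI : Fact (Nat.Prime 3) := ⟨Nat.prime_three⟩
  set C := centralizer ({x} : Set G) with hC
  have hE : Ex P x ≤ C := inf_le_right
  obtain ⟨Q₀, hQ₀⟩ := ((P.2.to_le (inf_le_left : Ex P x ≤ _)).comap_of_injective C.subtype
    C.subtype_injective).exists_le_sylow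
  rw [Sylow.card_eq_multiplicity, ← Sylow.card_eq_multiplicity Q₀]
  have hge : 9 ≤ Nat.card (Q₀ : Subgroup C) := by
    rw [← S.card_Ex hx, ← Nat.card_congr (subgroupOfEquivOfLe hE).toEquiv]
    exact Nat.le_of_dvd Nat.card_pos (card_dvd_of_le hQ₀)
  obtain ⟨R, hR⟩ := (Q₀.2.map C.subtype).exists_le_sylow
  have hR27 : Nat.card (R : Subgroup G) = 27 := by
    rw [Sylow.card_eq_multiplicity, ← Sylow.card_eq_multiplicity P, S.card]
  have hmap : Nat.card ((Q₀ : Subgroup C).map C.subtype) = Nat.card (Q₀ : Subgroup C) :=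
    (Nat.card_congr ((Q₀ : Subgroup C).equivMapOfInjective C.subtype C.subtype_injective).toEquiv).symm
  have hd : Nat.card (Q₀ : Subgroup C) ∣ 3 ^ 3 := by
    rw [show 3 ^ 3 = 27 by norm_num, ← hR27, ← hmap]; exact card_dvd_of_le hR
  obtain ⟨i, hi, he⟩ := (Nat.dvd_prime_pow Nat.prime_three).1 hd
  rw [he]
  interval_cases i
  all_goals first
    | omega
    | skip
  -- the case of a full Sylow subgroup centralising `x`
  exfalso
  have heq : (Q₀ : Subgroup C).map C.subtype = (R : Subgroup G) :=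
    eq_of_le_of_card_ge hR (by rw [hR27, hmap, he]; norm_num)
  have hxR : x ∈ (R : Subgroup G) := heq ▸
    ⟨⟨x, hE (mem_Ex.2 ⟨hx.1, rfl⟩)⟩, hQ₀ (mem_subgroupOf.2 (mem_Ex.2 ⟨hx.1, rfl⟩)), rfl⟩
  obtain ⟨g, rfl⟩ := MulAction.exists_smul_eq G P R
  have hu : g⁻¹ * x * g ∈ (P : Subgroup G) := by
    rw [Sylow.coe_subgroup_smul, mem_pointwise_smul_iff_inv_smul_mem] at hxR
    simpa [mul_assoc] using hxR
  have hcent : g⁻¹ * x * g ∈ zpowers z := by
    refine S.only _ hu fun y hy => ?_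
    have hyR : g * y * g⁻¹ ∈ ((Q₀ : Subgroup C).map C.subtype) := by
      rw [heq, Sylow.coe_subgroup_smul, mem_pointwise_smul_iff_inv_smul_mem]
      simpa [mul_assoc] using hy
    obtain ⟨⟨c, hcC⟩, -, hcy⟩ := hyR
    have h2 : c * x = x * c := mem_centralizer_singleton_iff.1 hcC
    have hcy' : c = g * y * g⁻¹ := hcy
    calc g⁻¹ * x * g * y = g⁻¹ * (x * c) * g := by rw [hcy']; group
      _ = g⁻¹ * (c * x) * g := by rw [h2]
      _ = y * (g⁻¹ * x * g) := by rw [hcy']; group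
  have hout := S.out_conj hx (g := g⁻¹) (by simpa using hu)
  exact hout.2 (by simpa using hcent)

/-- `C_P(x)` is a Sylow subgroup of the centraliser of `x`. -/
theorem exists_sylow_Ex {x : G} (hx : Out P z x) :
    ∃ Q : Sylow 3 (centralizer ({x} : Set G)),
      (Q : Subgroup (centralizer ({x} : Set G))) = (Ex P x).subgroupOf _ := by
  have hE : Ex P x ≤ centralizer ({x} : Set G) := inf_le_right
  have hp : IsPGroup 3 ((Ex P x).subgroupOf (centralizer ({x} : Set G))) :=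
    (P.2.to_le (inf_le_left : Ex P x ≤ _)).comap_of_injective _ (Subgroup.subtype_injective _)
  obtain ⟨Q, hQ⟩ := hp.exists_le_sylow
  refine ⟨Q, (eq_of_le_of_card_ge hQ ?_).symm⟩
  rw [Nat.card_congr (subgroupOfEquivOfLe hE).toEquiv, S.card_Ex hx]
  exact (S.card_sylow_centralizer hx Q).le

/-- The centraliser of an outside element has a normal `3`-complement. -/
theorem complement_centralizer {x : G} (hx : Out P z x) :
    HasNormalPComplement 3 (centralizer ({x} : Set G)) := by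
  haveI : Fact (Nat.Prime 3) := ⟨Nat.prime_three⟩
  set C := centralizer ({x} : Set G) with hC
  have hE : Ex P x ≤ C := inf_le_right
  obtain ⟨Q, hQe⟩ := S.exists_sylow_Ex hx
  refine hasNormalPComplement_of_normalizer_le_centralizer Q ?_
  intro n hn y hy
  have hzE : z ∈ Ex P x := mem_Ex.2 ⟨S.mem, S.cent x hx.1⟩
  have hzQ : (⟨z, hE hzE⟩ : C) ∈ (Q : Subgroup C) := hQe ▸ mem_subgroupOf.2 hzE
  have h1 := (mem_normalizer_iff.1 hn ⟨z, hE hzE⟩).1 hzQ
  rw [hQe, mem_subgroupOf] at h1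
  have hnz : (n : G) * z * (n : G)⁻¹ = z := S.weak (mem_Ex.1 h1).1
  have hnx : (n : G) * x = x * (n : G) := mem_centralizer_singleton_iff.1 n.2
  rw [SetLike.mem_coe, hQe, mem_subgroupOf] at hy
  exact Subtype.ext (S.centralizes_Ex hx (mul_inv_eq_iff_eq_mul.1 hnz) hnx hy).symm

/-- Fusion of outside elements is induced by the centraliser of `z`. -/
theorem fusion {u g : G} (hu : Out P z u) (hg : g * u * g⁻¹ ∈ (P : Subgroup G)) :
    ∃ h : G, h * z = z * h ∧ h * u * h⁻¹ = g * u * g⁻¹ := by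
  haveI : Fact (Nat.Prime 3) := ⟨Nat.prime_three⟩
  obtain ⟨v, hvdef⟩ : ∃ v, v = g * u * g⁻¹ := ⟨_, rfl⟩
  rw [← hvdef] at hg ⊢
  have hv : Out P z v := hvdef ▸ S.out_conj hu (hvdef ▸ hg)
  set C := centralizer ({v} : Set G) with hC
  have hE : Ex P v ≤ C := inf_le_right
  obtain ⟨Q, hQe⟩ := S.exists_sylow_Ex hv
  have hzv : g * z * g⁻¹ ∈ C := mem_centralizer_singleton_iff.2 (by
    rw [hvdef]
    exact ((show Commute z u from S.cent u hu.1).map (MulAut.conj g).toMonoidHom).eq)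
  have hord : orderOf (g * z * g⁻¹) = 3 := by
    rw [show g * z * g⁻¹ = (MulAut.conj g).toMonoidHom z from rfl,
      orderOf_injective _ (MulAut.conj g).injective, S.order_z]
  obtain ⟨Q', hQ'⟩ := (IsPGroup.iff_card.2 ⟨1, by
    rw [Nat.card_zpowers, ← Subgroup.orderOf_coe, pow_one]; exact hord⟩ :
      IsPGroup 3 (zpowers (⟨g * z * g⁻¹, hzv⟩ : C))).exists_le_sylow
  obtain ⟨c, hc⟩ := MulAction.exists_smul_eq C Q' Q
  have h1 : MulAut.conj c • (⟨g * z * g⁻¹, hzv⟩ : C) ∈ ((c • Q' : Sylow 3 C) : Subgroup C) := by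
    rw [Sylow.coe_subgroup_smul]
    exact smul_mem_pointwise_smul _ _ _ (hQ' (Subgroup.mem_zpowers _))
  rw [hc, hQe, mem_subgroupOf] at h1
  have h2 : (c : G) * g * z * ((c : G) * g)⁻¹ ∈ (P : Subgroup G) := by
    have := (mem_Ex.1 h1).1
    simpa [mul_assoc] using this
  refine ⟨(c : G) * g, mul_inv_eq_iff_eq_mul.1 (S.weak h2), ?_⟩
  have hcv : Commute (c : G) v := mem_centralizer_singleton_iff.1 c.2
  calc (c : G) * g * u * ((c : G) * g)⁻¹ = (c : G) * v * (c : G)⁻¹ := by rw [hvdef]; group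
    _ = v := by rw [hcv.eq, mul_inv_cancel_right]

/-- Fusion inside the centraliser of `z` is induced by the normaliser of `P`. -/
theorem normal_conj {u h : G} (hu : Out P z u) (hh : h * z = z * h)
    (hu' : h * u * h⁻¹ ∈ (P : Subgroup G)) :
    ∃ n ∈ Subgroup.normalizer ((P : Subgroup G) : Set G), n * u * n⁻¹ = h * u * h⁻¹ := by
  obtain ⟨v, hvdef⟩ : ∃ v, v = h * u * h⁻¹ := ⟨_, rfl⟩
  rw [← hvdef] at hu' ⊢
  have hv : Out P z v := hvdef ▸ S.out_conj hu (hvdef ▸ hu')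
  let M : Subgroup G :=
    { carrier := {m | m * z = z * m ∧ ∃ d ∈ zpowers z, m * v * m⁻¹ = v * d}
      one_mem' := ⟨by simp, 1, one_mem _, by simp⟩
      mul_mem' := fun {a b} ha hb => by
        obtain ⟨ha1, d, hd, hda⟩ := ha
        obtain ⟨hb1, d', hd', hdb⟩ := hb
        refine ⟨Commute.mul_left (show Commute a z from ha1) hb1, d * d', mul_mem hd hd', ?_⟩
        have had : a * d' * a⁻¹ = d' := by
          obtain ⟨k, rfl⟩ := mem_zpowers_iff.1 hd'
          rw [← conj_zpow, ha1, mul_inv_cancel_right]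
        calc a * b * v * (a * b)⁻¹ = a * (b * v * b⁻¹) * a⁻¹ := by group
          _ = (a * v * a⁻¹) * (a * d' * a⁻¹) := by rw [hdb]; group
          _ = v * (d * d') := by rw [hda, had, mul_assoc]
      inv_mem' := fun {a} ha => by
        obtain ⟨ha1, d, hd, hda⟩ := ha
        have had : a⁻¹ * d * a = d := by
          obtain ⟨k, rfl⟩ := mem_zpowers_iff.1 hd
          rw [mul_assoc, ← ((show Commute a z from ha1).zpow_right k).eq, inv_mul_cancel_left]
        refine ⟨(show Commute a z from ha1).inv_left, d⁻¹, inv_mem hd, ?_⟩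
        calc a⁻¹ * v * a⁻¹⁻¹ = a⁻¹ * (a * v * a⁻¹) * a * (a⁻¹ * d * a)⁻¹ := by rw [hda]; group
          _ = v * d⁻¹ := by rw [had]; group }
  have hP : (P : Subgroup G) ≤ M := fun y hy => ⟨(S.cent y hy).symm, _,
    S.comm v⁻¹ (inv_mem hv.1) y hy, by group⟩
  obtain ⟨m, ⟨-, d, hd, hdm⟩, hmn⟩ := exists_mul_mem_normalizer P hP (g := h) (fun y hy => by
    refine ⟨?_, _, S.comm u⁻¹ (inv_mem hu.1) y hy, ?_⟩
    · exact (Commute.mul_left (Commute.mul_left (show Commute h z from hh) (S.cent y hy).symm)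
        (show Commute h z from hh).inv_left).eq
    · have hd : h * (u⁻¹ * y * u⁻¹⁻¹ * y⁻¹) * h⁻¹ = u⁻¹ * y * u⁻¹⁻¹ * y⁻¹ := by
        obtain ⟨k, hk⟩ := mem_zpowers_iff.1 (S.comm u⁻¹ (inv_mem hu.1) y hy)
        rw [← hk, ← conj_zpow, hh, mul_inv_cancel_right]
      rw [← hd, hvdef]; group)
  obtain ⟨y, hy, hyv⟩ := S.exists_conj_mul hv (inv_mem hd)
  refine ⟨y * (m * h), mul_mem (Subgroup.le_normalizer hy) hmn, ?_⟩
  have hyd : y * d * y⁻¹ = d := by
    obtain ⟨k, rfl⟩ := mem_zpowers_iff.1 hd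
    rw [← conj_zpow, ← S.cent y hy, mul_inv_cancel_right]
  calc y * (m * h) * u * (y * (m * h))⁻¹ = y * (m * v * m⁻¹) * y⁻¹ := by rw [hvdef]; group
    _ = (y * v * y⁻¹) * (y * d * y⁻¹) := by rw [hdm]; group
    _ = v := by rw [hyv, hyd, inv_mul_cancel_right]

/-- Conjugate outside elements of `P` are conjugate under the normaliser. -/
theorem conj_normalizer {u v : G} (hu : Out P z u) (hv : v ∈ (P : Subgroup G))
    (h : IsConj u v) :
    ∃ n ∈ Subgroup.normalizer ((P : Subgroup G) : Set G), n * u * n⁻¹ = v := by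
  obtain ⟨g, rfl⟩ := isConj_iff.1 h
  obtain ⟨c, hc, hcu⟩ := S.fusion hu hv
  rw [← hcu] at hv ⊢
  exact S.normal_conj hu hc hv

end Setup

end CfsgLib.Blocks.ThreeExtra
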