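import Mathlib.Data.Fintype.Card
import Mathlib.Algebra.BigOperators.Group.Finset.Basic
import Mathlib.Algebra.Order.BigOperators.Group.Finset
import Mathlib.Analysis.Complex.Basic

/-!
# Integral columns of norm nine and vectors of small norm
-/

set_option linter.unusedSectionVars false

namespace CfsgLib.Blocks.ThreeExtra.Lattice

open Finset

universe u v w

variable {I : Type u} [Fintype I] {R : Type v} [Fintype R]

/-- Orthogonal integral columns of norm nine, congruent modulo three, equal to one at `o`. -/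
structure Cols (c : R → I → ℤ) (o : I) : Prop where
  sq : ∀ r, ∑ i, c r i * c r i = 9
  orth : ∀ r s, r ≠ s → ∑ i, c r i * c s i = 0
  one : ∀ r, c r o = 1
  cong : ∀ r s i, 3 ∣ c r i - c s i
  nonempty : Nonempty R

open scoped Classical in
/-- The rows which are not zero. -/
noncomputable def NZ (c : R → I → ℤ) : Finset I := univ.filter fun i => ∃ r, c r i ≠ 0

open scoped Classical in
/-- The entries of absolute value two in a column. -/
noncomputable def Spec (c : R → I → ℤ) (r : R) : Finset I :=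
  univ.filter fun i => c r i = 2 ∨ c r i = -2

theorem mem_NZ {c : R → I → ℤ} {i : I} : i ∈ NZ c ↔ ∃ r, c r i ≠ 0 := by simp [NZ]

theorem mem_Spec {c : R → I → ℤ} {r : R} {i : I} : i ∈ Spec c r ↔ (c r i = 2 ∨ c r i = -2) := by
  simp [Spec]

theorem int_cases {x : ℤ} (h : x * x ≤ 8) : x = 0 ∨ x = 1 ∨ x = -1 ∨ x = 2 ∨ x = -2 := by
  have h1 : -2 ≤ x ∧ x ≤ 2 := ⟨by nlinarith, by nlinarith⟩
  omega

theorem sq_eq_one {x : ℤ} (h : x * x ≤ 2) (hx : x ≠ 0) : x = 1 ∨ x = -1 := by
  have h1 : -1 ≤ x ∧ x ≤ 1 := ⟨by nlinarith, by nlinarith⟩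
  omega

namespace Cols

variable {c : R → I → ℤ} {o : I} (h : Cols c o)

include h

theorem cases (r : R) (i : I) :
    c r i = 0 ∨ c r i = 1 ∨ c r i = -1 ∨ c r i = 2 ∨ c r i = -2 := by
  classical
  by_cases hi : i = o
  · exact Or.inr (Or.inl (hi ▸ h.one r))
  refine int_cases ?_
  have h1 := h.sq r
  rw [← Finset.add_sum_erase _ _ (mem_univ o), h.one r] at h1
  have h2 : c r i * c r i ≤ ∑ j ∈ univ.erase o, c r j * c r j :=
    Finset.single_le_sum (f := fun j => c r j * c r j) (fun j _ => mul_self_nonneg _)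
      (mem_erase.2 ⟨hi, mem_univ i⟩)
  linarith

theorem ne_zero {i : I} (hi : i ∈ NZ c) (r : R) : c r i ≠ 0 := by
  intro h0
  obtain ⟨s, hs⟩ := mem_NZ.1 hi
  have h1 := h.cong r s i
  rcases h.cases s i with e | e | e | e | e <;> rw [h0, e] at h1 <;> first | exact hs e | omega

theorem o_mem : o ∈ NZ c := by
  obtain ⟨r⟩ := h.nonempty
  exact mem_NZ.2 ⟨r, by rw [h.one r]; norm_num⟩

theorem o_notMem (r : R) : o ∉ Spec c r := fun hm => by
  rcases mem_Spec.1 hm with e | e <;> rw [h.one r] at e <;> norm_num at e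

theorem spec_sub (r : R) : Spec c r ⊆ NZ c := fun i hi => mem_NZ.2 ⟨r, by
  rcases mem_Spec.1 hi with e | e <;> rw [e] <;> norm_num⟩

theorem count (r : R) : ((NZ c).card : ℤ) + 3 * (Spec c r).card = 9 := by
  classical
  rw [← h.sq r, ← Finset.sum_subset (subset_univ (NZ c)) (fun i _ hi => by
    rw [show c r i = 0 from by_contra fun e => hi (mem_NZ.2 ⟨r, e⟩), zero_mul])]
  have e : ∀ i ∈ NZ c, c r i * c r i = 1 + 3 * (if i ∈ Spec c r then 1 else 0) := by
    intro i hi
    rcases h.cases r i with e | e | e | e | e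
    · exact absurd e (h.ne_zero hi r)
    all_goals simp [mem_Spec, e]
  rw [Finset.sum_congr rfl e, sum_add_distrib, ← mul_sum, sum_boole, sum_const, nsmul_eq_mul,
    mul_one, filter_mem_eq_inter, inter_eq_right.2 (h.spec_sub r)]

theorem mixed [DecidableEq I] {r s : R} (hrs : r ≠ s) :
    ((NZ c).card : ℤ) - 3 * ((Spec c r).card + (Spec c s).card) +
      9 * (Spec c r ∩ Spec c s).card = 0 := by
  classical
  rw [← h.orth r s hrs, ← Finset.sum_subset (subset_univ (NZ c)) (fun i _ hi => by
    rw [show c r i = 0 from by_contra fun e => hi (mem_NZ.2 ⟨r, e⟩), zero_mul])]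
  have e : ∀ i ∈ NZ c, c r i * c s i = 1 - 3 * ((if i ∈ Spec c r then 1 else 0) +
      (if i ∈ Spec c s then 1 else 0)) + 9 * (if i ∈ Spec c r ∩ Spec c s then 1 else 0) := by
    intro i hi
    have hc := h.cong r s i
    rcases h.cases r i with e | e | e | e | e <;> rcases h.cases s i with e' | e' | e' | e' | e' <;>
      first
      | exact absurd e (h.ne_zero hi r)
      | exact absurd e' (h.ne_zero hi s)
      | (rw [e, e'] at hc; omega)
      | simp [mem_Spec, e, e']
  rw [Finset.sum_congr rfl e, sum_add_distrib, sum_sub_distrib, ← mul_sum, ← mul_sum,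
    sum_add_distrib, sum_boole, sum_boole, sum_boole, sum_const, nsmul_eq_mul, mul_one,
    filter_mem_eq_inter, filter_mem_eq_inter, filter_mem_eq_inter,
    inter_eq_right.2 (h.spec_sub r), inter_eq_right.2 (h.spec_sub s),
    inter_eq_right.2 (inter_subset_left.trans (h.spec_sub r))]

/-- The two possible shapes. -/
theorem shape [DecidableEq I] {deg : I → ℤ} (hd1 : deg o = 1)
    (hdeg : ∀ r, ∑ i, c r i * deg i = 0) :
    (Fintype.card R = 1 ∧ (NZ c).card = 9 ∧ ∀ r, Spec c r = ∅) ∨
      ((NZ c).card = 6 ∧ (∀ r, (Spec c r).card = 1) ∧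
        ∀ r s, r ≠ s → Spec c r ∩ Spec c s = ∅) := by
  classical
  have hone : ∀ r, (Spec c r).card + 1 ≤ (NZ c).card := fun r => by
    have := Finset.card_le_card (insert_subset_iff.2 ⟨h.o_mem, h.spec_sub r⟩)
    rwa [card_insert_of_notMem (h.o_notMem r)] at this
  by_cases hR : ∃ r s : R, r ≠ s
  · obtain ⟨r, s, hrs⟩ := hR
    have hall : ∀ t t' : R, t ≠ t' → (Spec c t).card = 1 ∧ Spec c t ∩ Spec c t' = ∅ ∧
        (NZ c).card = 6 := by
      intro t t' htt
      have h1 := h.count t
      have h2 := h.count t'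
      have h3 := h.mixed htt
      have hu : (Spec c t ∪ Spec c t').card + 1 ≤ (NZ c).card := by
        have := Finset.card_le_card (insert_subset_iff.2
          ⟨h.o_mem, union_subset (h.spec_sub t) (h.spec_sub t')⟩)
        rwa [card_insert_of_notMem (by simp [h.o_notMem])] at this
      have h4 := card_union_add_card_inter (Spec c t) (Spec c t')
      exact ⟨by omega, card_eq_zero.1 (by omega), by omega⟩
    refine Or.inr ⟨(hall r s hrs).2.2, fun t => ?_, fun t t' h' => (hall t t' h').2.1⟩
    rcases eq_or_ne t r with rfl | ht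
    · exact (hall t s hrs).1
    · exact (hall t r ht).1
  · push Not at hR
    obtain ⟨r⟩ := h.nonempty
    have hcard : Fintype.card R = 1 := Fintype.card_eq_one_iff.2 ⟨r, fun s => hR s r⟩
    have h1 := h.count r
    have h1' := hone r
    rcases (show (Spec c r).card = 0 ∨ (Spec c r).card = 1 ∨ (Spec c r).card = 2 by omega) with
      e | e | e
    · exact Or.inl ⟨hcard, by omega, fun s => hR r s ▸ card_eq_zero.1 e⟩
    · exact Or.inr ⟨by omega, fun s => hR r s ▸ e, fun s t hst => absurd (hR s t) hst⟩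
    · exfalso
      have hN : (NZ c).card = 3 := by omega
      have hins : insert o (Spec c r) = NZ c := eq_of_subset_of_card_le
        (insert_subset_iff.2 ⟨h.o_mem, h.spec_sub r⟩)
        (by rw [card_insert_of_notMem (h.o_notMem r)]; omega)
      have h2 : (∑ i ∈ Spec c r, c r i * deg i) + 1 = 0 := by
        rw [← hdeg r, ← Finset.sum_subset (subset_univ (NZ c)) (fun i _ hi => by
          rw [show c r i = 0 from by_contra fun e => hi (mem_NZ.2 ⟨r, e⟩), zero_mul]), ← hins,
          sum_insert (h.o_notMem r), h.one r, hd1]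
        ring
      obtain ⟨k, hk⟩ : (2 : ℤ) ∣ ∑ i ∈ Spec c r, c r i * deg i :=
        dvd_sum fun i hi => by
          rcases mem_Spec.1 hi with e | e <;> rw [e]
          · exact dvd_mul_right 2 _
          · exact Dvd.dvd.mul_right (by norm_num) _
      omega

end Cols

/-! ### small representatives -/

/-- Two vectors agree on everything orthogonal to the columns. -/
def SameRes (c : R → I → ℤ) (n m : I → ℤ) : Prop :=
  ∀ d : I → ℂ, (∀ r, ∑ i, (c r i : ℂ) * d i = 0) →
    ∑ i, (m i : ℂ) * d i = ∑ i, (n i : ℂ) * d i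

theorem SameRes.add {c : R → I → ℤ} {n m v : I → ℤ} (h : SameRes c n m)
    (hv : ∀ d : I → ℂ, (∀ r, ∑ i, (c r i : ℂ) * d i = 0) → ∑ i, (v i : ℂ) * d i = 0) :
    SameRes c n (fun i => m i + v i) := by
  intro d hd
  simp only [Int.cast_add, add_mul, sum_add_distrib]
  rw [h d hd, hv d hd, add_zero]

/-- A vector whose projection has norm one has a representative of norm two. -/
theorem exists_small {c : R → I → ℤ} {o : I} (h : Cols c o) (hR : ¬ 3 ∣ Fintype.card R)
    (hrows : ∀ i, ∃ r, c r i ≠ 0) (n : I → ℤ)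
    (hQ : ∀ m, SameRes c n m →
      9 * ∑ i, m i * m i = ∑ r, (∑ i, m i * c r i) * (∑ i, m i * c r i) + 9) :
    ∃ m, SameRes c n m ∧ ∑ i, m i * m i = 2 ∧
      ∃ r, (∑ i, m i * c r i = 3 ∨ ∑ i, m i * c r i = -3) ∧
        ∀ s, s ≠ r → ∑ i, m i * c s i = 0 := by
  classical
  have hex : ∃ k : ℕ, ∃ m, SameRes c n m ∧ (∑ i, m i * m i).toNat = k :=
    ⟨_, n, fun d _ => rfl, rfl⟩
  obtain ⟨m, hm, hmin⟩ : ∃ m, SameRes c n m ∧
      ∀ m', SameRes c n m' → ∑ i, m i * m i ≤ ∑ i, m' i * m' i := by
    obtain ⟨m, hm, e⟩ := Nat.find_spec hex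
    refine ⟨m, hm, fun m' hm' => ?_⟩
    have := Nat.find_min' hex ⟨m', hm', rfl⟩
    have h0 : 0 ≤ ∑ i, m i * m i := sum_nonneg fun i _ => mul_self_nonneg _
    have h0' : 0 ≤ ∑ i, m' i * m' i := sum_nonneg fun i _ => mul_self_nonneg _
    omega
  set T : R → ℤ := fun r => ∑ i, m i * c r i with hT
  have hq := hQ m hm
  -- the pairings are divisible by three
  have hcongT : ∀ r s, 3 ∣ T r - T s := fun r s => by
    simp only [hT, ← sum_sub_distrib, ← mul_sub]
    exact dvd_sum fun i _ => Dvd.dvd.mul_left (h.cong r s i) _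
  obtain ⟨r₀⟩ := h.nonempty
  have hdiv : ∀ r, 3 ∣ T r := by
    have e : (∑ r, (T r * T r - T r₀ * T r₀)) = ∑ r, T r * T r - Fintype.card R * (T r₀ * T r₀) := by
      rw [sum_sub_distrib, sum_const, card_univ, nsmul_eq_mul]
    have h1 : (3 : ℤ) ∣ ∑ r, (T r * T r - T r₀ * T r₀) := dvd_sum fun r _ => by
      rw [mul_self_sub_mul_self]; exact Dvd.dvd.mul_left (hcongT r r₀) _
    have h2 : (3 : ℤ) ∣ ∑ r, T r * T r :=
      ⟨3 * ∑ i, m i * m i - 3, by simp only [hT] at *; linarith⟩
    rw [e] at h1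
    have h3 : (3 : ℤ) ∣ (Fintype.card R : ℤ) * (T r₀ * T r₀) := (dvd_sub_right h2).1 h1
    have h4 : 3 ∣ T r₀ := by
      obtain ⟨k, hk⟩ := h3
      rcases (show T r₀ % 3 = 0 ∨ T r₀ % 3 = 1 ∨ T r₀ % 3 = 2 by omega) with e | e | e
      · exact Int.dvd_of_emod_eq_zero e
      · obtain ⟨q, hq'⟩ : ∃ q, T r₀ = 3 * q + 1 := ⟨T r₀ / 3, by omega⟩
        rw [hq'] at hk
        refine absurd (Int.natCast_dvd_natCast.1 (show ((3 : ℕ) : ℤ) ∣ Fintype.card R from
          ⟨k - Fintype.card R * (3 * q * q + 2 * q), ?_⟩)) hR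
        push_cast
        linear_combination hk
      · obtain ⟨q, hq'⟩ : ∃ q, T r₀ = 3 * q - 1 := ⟨T r₀ / 3 + 1, by omega⟩
        rw [hq'] at hk
        refine absurd (Int.natCast_dvd_natCast.1 (show ((3 : ℕ) : ℤ) ∣ Fintype.card R from
          ⟨k - Fintype.card R * (3 * q * q - 2 * q), ?_⟩)) hR
        push_cast
        linear_combination hk
    intro r
    simpa using dvd_add (hcongT r r₀) h4
  choose a ha using hdiv
  have hnorm : ∀ (m' : I → ℤ) (b : R → ℤ), SameRes c n m' → (∀ r, ∑ i, m' i * c r i = 3 * b r) →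
      ∑ i, m' i * m' i = ∑ r, b r * b r + 1 := by
    intro m' b hm' hb
    have h1 := hQ m' hm'
    simp only [hb] at h1
    have : ∑ r, 3 * b r * (3 * b r) = 9 * ∑ r, b r * b r := by
      rw [mul_sum]; exact sum_congr rfl fun r _ => by ring
    linarith
  -- shifting a representative
  have step : ∀ (v : I → ℤ) (δ : R → ℤ),
      (∀ d : I → ℂ, (∀ r, ∑ i, (c r i : ℂ) * d i = 0) → ∑ i, (v i : ℂ) * d i = 0) →
      (∀ r, ∑ i, v i * c r i = 3 * δ r) →
      ∑ r, a r * a r ≤ ∑ r, (a r + δ r) * (a r + δ r) := by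
    intro v δ hv hδ
    have hm' := hm.add hv
    have e1 := hnorm m a hm ha
    have e2 := hnorm _ (fun r => a r + δ r) hm' (fun r => by
      simp only [add_mul, sum_add_distrib, hδ r, show ∑ i, m i * c r i = 3 * a r from ha r]
      ring)
    have := hmin _ hm'
    linarith
  have kc : ∀ (k : ℤ) (r : R), ∀ d : I → ℂ, (∀ r, ∑ i, (c r i : ℂ) * d i = 0) →
      ∑ i, ((k * c r i : ℤ) : ℂ) * d i = 0 := by
    intro k r d hd
    simp only [Int.cast_mul, mul_assoc, ← mul_sum, hd r, mul_zero]
  have cc : ∀ r s, ∑ i, c r i * c s i = if r = s then 9 else 0 := fun r s => by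
    split_ifs with e
    · rw [e, h.sq]
    · exact h.orth r s e
  have hsmall : ∀ r, a r = 0 ∨ a r = 1 ∨ a r = -1 := by
    intro r
    have key : ∀ k : ℤ, a r * a r ≤ (a r + 3 * k) * (a r + 3 * k) := by
      intro k
      have h1 := step (fun i => k * c r i) (fun s => if r = s then 3 * k else 0) (kc k r) (fun s => by
        simp only [mul_assoc, ← mul_sum, cc]
        split_ifs <;> ring)
      rw [← add_sum_erase _ _ (mem_univ r), ← add_sum_erase univ
        (fun s => (a s + if r = s then 3 * k else 0) * (a s + if r = s then 3 * k else 0))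
        (mem_univ r), sum_congr (s₁ := univ.erase r) rfl (fun s hs => show
          (a s + if r = s then 3 * k else 0) * (a s + if r = s then 3 * k else 0) = a s * a s by
            rw [if_neg (fun e => (mem_erase.1 hs).1 e.symm), add_zero])] at h1
      simp only [if_true] at h1
      linarith
    have h1 := key 1
    have h2 := key (-1)
    have h3 : -1 ≤ a r ∧ a r ≤ 1 := ⟨by nlinarith, by nlinarith⟩
    omega
  have huniq : ∀ r s, r ≠ s → a r = 0 ∨ a s = 0 := by
    intro r s hrs
    by_contra hcon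
    push Not at hcon
    choose wv hwv using fun i => h.cong r s i
    have key : ∀ δr δs : ℤ, (∃ j k : ℤ, δr = j + 3 * k ∧ δs = -j) →
        a r * a r + a s * a s ≤ (a r + δr) * (a r + δr) + (a s + δs) * (a s + δs) := by
      rintro δr δs ⟨j, k, rfl, rfl⟩
      have hkill : ∀ d : I → ℂ, (∀ r, ∑ i, (c r i : ℂ) * d i = 0) →
          ∑ i, ((j * wv i + k * c r i : ℤ) : ℂ) * d i = 0 := by
        intro d hd
        have hw0 : ∑ i, (wv i : ℂ) * d i = 0 := by
          refine mul_left_cancel₀ (three_ne_zero (α := ℂ)) ?_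
          rw [mul_zero, mul_sum, sum_congr rfl fun i _ => show (3 : ℂ) * ((wv i : ℂ) * d i) =
            (c r i : ℂ) * d i - (c s i : ℂ) * d i by
              rw [← sub_mul, ← Int.cast_sub, hwv i]; push_cast; ring, sum_sub_distrib, hd r, hd s,
            sub_zero]
        simp only [Int.cast_add, Int.cast_mul, add_mul, mul_assoc, sum_add_distrib, ← mul_sum,
          hw0, hd r, mul_zero, add_zero]
      set δ : R → ℤ := fun t => (if r = t then j + 3 * k else 0) - (if s = t then j else 0) with hδ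
      have hsum : ∀ t, ∑ i, (j * wv i + k * c r i) * c t i = 3 * δ t := by
        intro t
        have hw3 : 3 * ∑ i, wv i * c t i =
            (if r = t then 9 else 0) - (if s = t then 9 else 0) := by
          rw [← cc, ← cc, ← sum_sub_distrib, mul_sum]
          exact sum_congr rfl fun i _ => by rw [← sub_mul, hwv i]; ring
        simp only [add_mul, mul_assoc, sum_add_distrib, ← mul_sum, cc]
        have hwc : ∑ i, wv i * c t i =
            (if r = t then 3 else 0) - (if s = t then 3 else 0) := by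
          split_ifs at hw3 ⊢ <;> omega
        rw [hwc]
        simp only [hδ]
        split_ifs <;> ring
      have h1 := step _ δ hkill hsum
      have e : ∀ f : R → ℤ, ∑ t, f t = f r + f s + ∑ t ∈ (univ.erase r).erase s, f t := fun f => by
        rw [← add_sum_erase _ _ (mem_univ r),
          ← add_sum_erase (univ.erase r) _ (mem_erase.2 ⟨hrs.symm, mem_univ s⟩), add_assoc]
      rw [e, e, sum_congr (s₁ := (univ.erase r).erase s) rfl (fun t ht => show
        (a t + δ t) * (a t + δ t) = a t * a t by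
          have ht1 := mem_erase.1 ht
          have ht2 := mem_erase.1 ht1.2
          simp [hδ, Ne.symm ht1.1, Ne.symm ht2.1])] at h1
      simp only [hδ, if_pos, hrs, Ne.symm hrs, if_false, sub_zero, zero_sub] at h1
      linarith
    rcases (hsmall r).resolve_left hcon.1 with e | e <;>
      rcases (hsmall s).resolve_left hcon.2 with e' | e'
    · have := key (-2) (-1) ⟨1, -1, by norm_num, by norm_num⟩
      rw [e, e'] at this; norm_num at this
    · have := key (-1) 1 ⟨-1, 0, by norm_num, by norm_num⟩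
      rw [e, e'] at this; norm_num at this
    · have := key 1 (-1) ⟨1, 0, by norm_num, by norm_num⟩
      rw [e, e'] at this; norm_num at this
    · have := key 2 1 ⟨-1, 1, by norm_num, by norm_num⟩
      rw [e, e'] at this; norm_num at this
  obtain ⟨r, hr⟩ : ∃ r, a r ≠ 0 := by
    by_contra hall
    push Not at hall
    have h1 := hnorm m a hm ha
    simp only [hall, mul_zero, sum_const_zero, zero_add] at h1
    obtain ⟨i, hi⟩ : ∃ i, m i ≠ 0 := by
      by_contra h0; push Not at h0; simp [h0] at h1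
    rw [← add_sum_erase _ _ (mem_univ i)] at h1
    have hnn : ∀ j ∈ univ.erase i, 0 ≤ m j * m j := fun j _ => mul_self_nonneg _
    have hrest : ∑ j ∈ univ.erase i, m j * m j = 0 := by
      have := sum_nonneg hnn
      have : 1 ≤ m i * m i := by rcases lt_or_gt_of_ne hi with e | e <;> nlinarith
      omega
    obtain ⟨t, ht⟩ := hrows i
    refine ht ((mul_eq_zero.1 ?_).resolve_left hi)
    have h2 : ∑ j, m j * c t j = 3 * a t := ha t
    rw [← add_sum_erase _ _ (mem_univ i), sum_eq_zero (fun j hj => by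
      rw [(mul_self_eq_zero.1 ((sum_eq_zero_iff_of_nonneg hnn).1 hrest j hj)), zero_mul]),
      add_zero, hall t, mul_zero] at h2
    exact h2
  have ho : ∀ s, s ≠ r → a s = 0 := fun s hs => (huniq r s (Ne.symm hs)).resolve_left hr
  refine ⟨m, hm, ?_, r, ?_, fun s hs => ?_⟩
  · rw [hnorm m a hm ha, sum_eq_single r (fun s _ hs => by rw [ho s hs, mul_zero]) (by simp)]
    rcases (hsmall r).resolve_left hr with e | e <;> rw [e] <;> norm_num
  · rcases (hsmall r).resolve_left hr with e | e
    · exact Or.inl (by rw [show ∑ i, m i * c r i = 3 * a r from ha r, e]; norm_num)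
    · exact Or.inr (by rw [show ∑ i, m i * c r i = 3 * a r from ha r, e]; norm_num)
  · rw [show ∑ i, m i * c s i = 3 * a s from ha s, ho s hs, mul_zero]

end CfsgLib.Blocks.ThreeExtra.Lattice
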