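import Cfsg.Agent.Lib.Blocks.ThreeExtra.Center
import Cfsg.Agent.Lib.Blocks.ThreeExtra.Lattice
import Cfsg.Agent.Lib.Blocks.FewChars.Count
import Cfsg.Agent.Lib.Blocks.PRationalExtension

/-!
# The invariants of the block of a group with central `z`
-/

namespace CfsgLib.Blocks.ThreeExtra

open Cfsg Subgroup CfsgLib.CharTheory CfsgLib.Blocks
open scoped ComplexConjugate

set_option linter.unusedSectionVars false
set_option linter.style.haveILetI false

universe u v

variable {K : Type u} [Group K] [Fintype K] {M : Ideal AlgInt}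

/-- An exponent fixing regular elements and inverting elements of order three. -/
structure Flip (K : Type u) [Group K] (j : ℕ) : Prop where
  coprime : j.Coprime (Nat.card K)
  reg : ∀ y : K, ¬ 3 ∣ orderOf y → y ^ j = y
  inv : ∀ y : K, y ^ 3 = 1 → y ^ j = y⁻¹
  invol : ∀ y : K, (y ^ j) ^ j = y

/-- The Galois permutation attached to a flip. -/
noncomputable def flipIrr {j : ℕ} (F : Flip K j) (χ : IrrCharacter K) : IrrCharacter K :=
  powIrr F.coprime χ

theorem flipIrr_apply {j : ℕ} (F : Flip K j) (χ : IrrCharacter K) (g : K) :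
    (flipIrr F χ : K → ℂ) g = (χ : K → ℂ) (g ^ j) := rfl

theorem flipIrr_flipIrr {j : ℕ} (F : Flip K j) (χ : IrrCharacter K) :
    flipIrr F (flipIrr F χ) = χ :=
  Subtype.ext (funext fun g => by rw [flipIrr_apply, flipIrr_apply, F.invol])

theorem flipIrr_mem {j : ℕ} (F : Flip K j) (hM : IsPModular 3 M) {χ : IrrCharacter K}
    (hχ : χ ∈ principalBlock M K) : flipIrr F χ ∈ principalBlock M K :=
  PRatExt.powIrr_principal hM F.coprime hχ

theorem flipIrr_reg {j : ℕ} (F : Flip K j) (χ : IrrCharacter K) {y : K} (hy : y ∈ regs K) :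
    (flipIrr F χ : K → ℂ) y = (χ : K → ℂ) y := by
  rw [flipIrr_apply, F.reg y (mem_regs.1 hy)]

/-- An element of order three conjugate to its inverse takes integral values. -/
theorem int_value {x : K} (h3 : x ^ 3 = 1) (h1 : x ≠ 1) (hx : IsConj x x⁻¹) (χ : IrrCharacter K) :
    ∃ c : ℤ, (χ : K → ℂ) x = c := by
  haveI : Fact (Nat.Prime 3) := ⟨Nat.prime_three⟩
  refine rational_int_of_invariant (isCharacter_of_irr χ.2) x fun m hm => ?_
  have h : ¬ 3 ∣ m := fun h => by
    have hd : 3 ∣ Nat.card K := (orderOf_eq_prime h3 h1) ▸ orderOf_dvd_natCard x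
    exact absurd (Nat.eq_one_of_dvd_coprimes hm h hd) (by norm_num)
  rw [← Nat.div_add_mod m 3, pow_add, pow_mul, h3, one_pow, one_mul]
  rcases (show m % 3 = 1 ∨ m % 3 = 2 by omega) with h | h <;> rw [h]
  · rw [pow_one]
  · have h2 : x ^ 2 = x⁻¹ := eq_inv_of_mul_eq_one_left (by rw [← pow_succ, h3])
    rw [h2]
    exact (classFun_eq_of_isConj (irr_isClassFun χ) hx).symm

/-- Inner product of two combinations. -/
theorem classInner_comb (s : Finset (IrrCharacter K)) (a b : IrrCharacter K → ℂ) :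
    classInner (fun h => ∑ ψ ∈ s, a ψ * (ψ : K → ℂ) h) (fun h => ∑ ψ ∈ s, b ψ * (ψ : K → ℂ) h) =
      ∑ ψ ∈ s, a ψ * conj (b ψ) := by
  classical
  rw [show (fun h => ∑ ψ ∈ s, a ψ * (ψ : K → ℂ) h) = ∑ ψ ∈ s, a ψ • (ψ : K → ℂ) by
      funext h; simp,
    show (fun h => ∑ ψ ∈ s, b ψ * (ψ : K → ℂ) h) = ∑ ψ ∈ s, b ψ • (ψ : K → ℂ) by funext h; simp,
    classInner_sum_left]
  refine Finset.sum_congr rfl fun ψ hψ => ?_
  rw [classInner_smul_left, classInner_sum_right, Finset.sum_eq_single_of_mem ψ hψ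
    (fun φ _ hne => by
      rw [classInner_smul_right, classInner_irr_ne ψ.2 φ.2 (fun e => hne (Subtype.ext e.symm)),
        mul_zero]), classInner_smul_right, classInner_irr_self ψ.2, mul_one]

theorem ker_conj_irr (g h : K) : conj (ker M g h) = ker M h g := by
  simp only [ker, map_sum, map_mul, Complex.conj_conj, mul_comm]

/-- The number of characters of the block. -/
theorem card_block {P : Sylow 3 K} {z : K} {ι : Type v} [Fintype ι] {x : ι → K} (S : Setup P z)
    (hout : ∀ r, Out P z (x r)) (hcover : ∀ u, Out P z u → ∃ r, IsConj u (x r))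
    (hsep : ∀ r s, IsConj (x r) (x s) → r = s) (hM : IsPModular 3 M) :
    Nat.card (principalBlock M K) = blockRank 3 (principalBlock M K) +
      2 * AbPrincipal.lc 3 M z + Fintype.card ι := by
  classical
  haveI : Fact (Nat.Prime 3) := ⟨Nat.prime_three⟩
  have hz3 : ∃ k : ℕ, orderOf z = 3 ^ k := ⟨1, by rw [S.order_z, pow_one]⟩
  have hzi : ∃ k : ℕ, orderOf z⁻¹ = 3 ^ k := ⟨1, by rw [orderOf_inv, S.order_z, pow_one]⟩
  have hinj : Function.Injective x := fun r s h => hsep r s (h ▸ IsConj.refl _)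
  have h := FewChars.count hM (insert z (insert z⁻¹ (Finset.univ.image x))) (fun y hy => by
    simp only [Finset.mem_insert, Finset.mem_image, Finset.mem_univ, true_and] at hy
    rcases hy with rfl | rfl | ⟨r, rfl⟩
    · exact ⟨S.ne, hz3⟩
    · exact ⟨inv_ne_one.2 S.ne, hzi⟩
    · exact ⟨S.out_ne_one (hout r), S.exists_order (hout r)⟩) (fun g hg1 hg => by
    have hne : ∀ r, ∀ t ∈ zpowers z, ¬ IsConj (x r) t := fun r t ht =>
      S.not_isConj_out (hout r) ht
    rcases S.elt_cases hg hg1 with e | e | ⟨v, hv, e⟩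
    · refine ⟨z, ⟨Finset.mem_insert_self _ _, e⟩, fun y hy => ?_⟩
      simp only [Finset.mem_insert, Finset.mem_image, Finset.mem_univ, true_and] at hy
      rcases hy with ⟨rfl | rfl | ⟨r, rfl⟩, hy⟩
      · rfl
      · exact absurd (e.symm.trans hy) S.not_isConj_inv
      · exact absurd (hy.symm.trans e) (hne r z (mem_zpowers z))
    · refine ⟨z⁻¹, ⟨Finset.mem_insert_of_mem (Finset.mem_insert_self _ _), e⟩, fun y hy => ?_⟩
      simp only [Finset.mem_insert, Finset.mem_image, Finset.mem_univ, true_and] at hy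
      rcases hy with ⟨rfl | rfl | ⟨r, rfl⟩, hy⟩
      · exact absurd (hy.symm.trans e) S.not_isConj_inv
      · rfl
      · exact absurd (hy.symm.trans e) (hne r _ (inv_mem (mem_zpowers z)))
    · obtain ⟨r, hr⟩ := hcover v hv
      refine ⟨x r, ⟨Finset.mem_insert_of_mem (Finset.mem_insert_of_mem
        (Finset.mem_image_of_mem _ (Finset.mem_univ r))), e.trans hr⟩, fun y hy => ?_⟩
      simp only [Finset.mem_insert, Finset.mem_image, Finset.mem_univ, true_and] at hy
      have h2 := (e.trans hr).symm.trans hy.2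
      rcases hy.1 with rfl | rfl | ⟨s, rfl⟩
      · exact absurd h2 (hne r _ (mem_zpowers _))
      · exact absurd h2 (hne r _ (inv_mem (mem_zpowers z)))
      · rw [hsep r s h2])
  have h1 : z ∉ insert z⁻¹ (Finset.univ.image x) := by
    simp only [Finset.mem_insert, Finset.mem_image, Finset.mem_univ, true_and, not_or, not_exists]
    exact ⟨fun e => S.inv_ne e.symm, fun r e => (hout r).2 (e ▸ mem_zpowers z)⟩
  have h2 : z⁻¹ ∉ Finset.univ.image x := by
    simp only [Finset.mem_image, Finset.mem_univ, true_and, not_exists]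
    exact fun r e => (hout r).2 (e ▸ inv_mem (mem_zpowers z))
  have h3 : AbPrincipal.lc 3 M z⁻¹ = AbPrincipal.lc 3 M z := by
    have e : centralizer ({z⁻¹} : Set K) = centralizer ({z} : Set K) := by
      ext g
      simp only [mem_centralizer_singleton_iff]
      exact ⟨fun hg => (inv_inv z) ▸ (show Commute g z⁻¹ from hg).inv_right,
        fun hg => (show Commute g z from hg).inv_right⟩
    unfold AbPrincipal.lc
    rw [e]
  rw [h, Finset.sum_insert h1, Finset.sum_insert h2, h3, Finset.sum_image hinj.injOn,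
    Finset.sum_congr rfl (fun r _ => show AbPrincipal.lc 3 M (x r) = 1 from
      AbPrincipal.blockRank_eq_one hM (S.complement_centralizer (hout r))), Finset.sum_const,
    Finset.card_univ, smul_eq_mul, mul_one]
  ring

section general

variable {P : Sylow 3 K} {z : K} {ι : Type v} [Fintype ι] {x : ι → K} (S : Setup P z)
  (hx : Reps P z x)

include S hx

theorem x_part (r : ι) : IsPPart 3 (x r) (x r) :=
  ⟨1, mul_one _, Commute.one_right _, S.exists_order (hx.out r),
    by rw [orderOf_one]; norm_num⟩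

theorem x_orth (hM : IsPModular 3 M) {r s : ι} (h : r ≠ s) : ker M (x r) (x s) = 0 :=
  ker_sections hM (x_part S hx r) (x_part S hx s) fun e => h (hx.sep r s e)

theorem x_int (r : ι) (χ : IrrCharacter K) : ∃ c : ℤ, (χ : K → ℂ) (x r) = c :=
  int_value (S.exp _ (hx.out r).1) (S.out_ne_one (hx.out r)) (hx.inv _ (hx.out r)) χ

/-- Congruence of the values at outside elements with the degrees. -/
theorem int_cong (hM : IsPModular 3 M) (χ : IrrCharacter K) {r : ι} {n : ℤ}
    (hn : (χ : K → ℂ) (x r) = n) : 3 ∣ n - (charDegree (χ : K → ℂ) : ℤ) := by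
  obtain ⟨k, hk⟩ := S.exists_order (hx.out r)
  have h := irr_res_pPart hM χ (w := 1) (Commute.one_right (x r)) hk
  rw [mul_one, hn, (charDegree_spec' χ.2).1] at h
  haveI := res_charP hM
  rw [← Int.cast_natCast, res_intCast' hM, res_intCast' hM] at h
  exact (CharP.intCast_eq_intCast (AlgInt ⧸ M) 3).1 h |>.symm.dvd

end general

section center

variable {P : Sylow 3 K} {z : K} {ι : Type v} [Fintype ι] {x : ι → K} (S : Setup P z)
  (hzc : z ∈ Subgroup.center K) (hx : Reps P z x)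

include S hzc hx

theorem flip_zeta {j : ℕ} (F : Flip K j) (ψ : IrrCharacter K) :
    zeta z (flipIrr F ψ) = zeta z ψ ^ 2 := by
  have h := zeta_inv_mul S hzc ψ 1
  rw [mul_one] at h
  rw [zeta, flipIrr_apply, flipIrr_apply, F.inv z S.z_pow, one_pow, h,
    mul_div_assoc, div_self (irr_ne_zero ψ.2), mul_one]

theorem card_infl (hM : IsPModular 3 M) {w : ℂ} (hw : IsPrimitiveRoot w 3) {j : ℕ} (F : Flip K j) :
    (infl M z).card = (om M z w).card + Fintype.card ι := by
  classical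
  have hk := card_block S hx.out hx.cover hx.sep hM
  rw [AbPrincipal.lc_of_mem_center hM hzc, rank_eq S hzc hx hM hw] at hk
  have hB : Nat.card (principalBlock M K) = (bset (principalBlock M K)).card := by
    rw [Nat.card_eq_fintype_card, ← Fintype.card_coe]
    exact Fintype.card_congr (Equiv.subtypeEquivRight fun ψ => mem_bset.symm)
  have hsplit : (bset (principalBlock M K)).card =
      (infl M z).card + (om M z w).card + (om M z (w ^ 2)).card := by
    rw [← Finset.card_union_of_disjoint, ← Finset.card_union_of_disjoint]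
    · congr 1
      ext ψ
      simp only [infl, om, Finset.mem_union, Finset.mem_filter]
      rcases zeta_cases S hzc hw ψ with e | e | e <;> simp [e] <;> tauto
    · simp only [Finset.disjoint_left, infl, om, Finset.mem_union, Finset.mem_filter]
      rintro ψ (⟨-, e⟩ | ⟨-, e⟩) ⟨-, e'⟩
      · exact w_sq_ne_one hw (e' ▸ e)
      · exact w_sq_ne hw (e' ▸ e)
    · simp only [Finset.disjoint_left, infl, om, Finset.mem_filter]
      rintro ψ ⟨-, e⟩ ⟨-, e'⟩
      exact w_ne_one hw (e' ▸ e)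
  have hsq : (om M z (w ^ 2)).card = (om M z w).card := by
    refine (Finset.card_bij' (fun ψ _ => flipIrr F ψ) (fun ψ _ => flipIrr F ψ) ?_ ?_
      (fun ψ _ => flipIrr_flipIrr F ψ) (fun ψ _ => flipIrr_flipIrr F ψ)).symm
    · intro ψ hψ
      simp only [om, Finset.mem_filter, mem_bset] at hψ ⊢
      exact ⟨flipIrr_mem F hM hψ.1, by rw [flip_zeta S hzc hx F, hψ.2]⟩
    · intro ψ hψ
      simp only [om, Finset.mem_filter, mem_bset] at hψ ⊢
      refine ⟨flipIrr_mem F hM hψ.1, ?_⟩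
      rw [flip_zeta S hzc hx F, hψ.2, ← pow_mul, show 2 * 2 = 3 + 1 from rfl, pow_succ,
        hw.pow_eq_one, one_mul]
  omega

variable {c : ι → IrrCharacter K → ℤ} (hc : ∀ r ψ, (ψ : IrrCharacter K).1 (x r) = (c r ψ : ℂ))

include hc

/-- The columns, as functions, are the kernels. -/
theorem col_ker (hM : IsPModular 3 M) (r : ι) (h : K) :
    ∑ ψ ∈ infl M z, (c r ψ : ℂ) * (ψ : K → ℂ) h = ker M h (x r) := by
  classical
  rw [ker, infl, Finset.sum_filter]
  refine Finset.sum_congr rfl fun ψ _ => ?_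
  by_cases e : zeta z ψ = 1
  · rw [if_pos e, hc r ψ, map_intCast, mul_comm]
  · rw [if_neg e, nontrivial_out S hzc hx e r, map_zero, mul_zero]

theorem col_orth (hM : IsPModular 3 M) (r s : ι) [Decidable (r = s)] :
    ∑ ψ ∈ infl M z, c r ψ * c s ψ = if r = s then 9 else 0 := by
  have h := col_ker S hzc hx hc hM r (x s)
  simp only [hc] at h
  have h2 : ((∑ ψ ∈ infl M z, c r ψ * c s ψ : ℤ) : ℂ) = ker M (x s) (x r) := by
    push_cast
    exact h
  split_ifs with e
  · subst e
    rw [S.out_sq hM (hx.out r)] at h2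
    exact_mod_cast h2
  · rw [x_orth S hx hM (fun e' => e e'.symm)] at h2
    exact_mod_cast h2

theorem col_reg (hM : IsPModular 3 M) (r : ι) {y : K} (hy : y ∈ regs K) :
    ∑ ψ ∈ infl M z, (c r ψ : ℂ) * (ψ : K → ℂ) y = 0 := by
  rw [col_ker S hzc hx hc hM]
  refine ker_reg hM (mem_regs.1 hy) ?_
  obtain ⟨k, hk⟩ := S.exists_order (hx.out r)
  rw [hk]
  refine dvd_pow_self 3 fun h => S.out_ne_one (hx.out r) ?_
  rw [← orderOf_eq_one_iff, hk, h, pow_zero]

/-- The identity of the norms of lifts. -/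
theorem lift_norm (hM : IsPModular 3 M) {w : ℂ} (hw : IsPrimitiveRoot w 3)
    {ξ η : IrrCharacter K} (hξ : ξ ∈ om M z w) (hη : η ∈ om M z w) [Decidable (ξ = η)]
    {n n' : IrrCharacter K → ℤ}
    (hn : ∀ y ∈ regs K, ∑ ψ ∈ infl M z, (n ψ : ℂ) * (ψ : K → ℂ) y = (ξ : K → ℂ) y)
    (hn' : ∀ y ∈ regs K, ∑ ψ ∈ infl M z, (n' ψ : ℂ) * (ψ : K → ℂ) y = (η : K → ℂ) y) :
    9 * ∑ ψ ∈ infl M z, n ψ * n' ψ =
      ∑ r, (∑ ψ ∈ infl M z, n ψ * c r ψ) * (∑ ψ ∈ infl M z, n' ψ * c r ψ) +
        if ξ = η then 9 else 0 := by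
  classical
  set T : (IrrCharacter K → ℤ) → ι → ℂ := fun a r => ∑ ψ ∈ infl M z, (a ψ : ℂ) * (c r ψ : ℂ) with hT
  set Y : (IrrCharacter K → ℤ) → IrrCharacter K → ℂ :=
    fun a ψ => (a ψ : ℂ) - ∑ r, T a r / 9 * (c r ψ : ℂ) with hY
  set F : (IrrCharacter K → ℤ) → K → ℂ := fun a h => ∑ ψ ∈ infl M z, Y a ψ * (ψ : K → ℂ) h with hF
  have hYT : ∀ a s, ∑ ψ ∈ infl M z, Y a ψ * (c s ψ : ℂ) = 0 := by
    intro a s
    simp only [hY, sub_mul, Finset.sum_sub_distrib, Finset.sum_mul]
    rw [Finset.sum_comm]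
    simp only [mul_assoc, ← Finset.mul_sum]
    rw [Finset.sum_eq_single s (fun r _ hr => by
      have := col_orth S hzc hx hc hM r s
      rw [if_neg hr] at this
      rw [show ∑ ψ ∈ infl M z, (c r ψ : ℂ) * (c s ψ : ℂ) = 0 by exact_mod_cast this, mul_zero])
      (by simp)]
    have := col_orth S hzc hx hc hM s s
    rw [if_pos rfl] at this
    rw [show ∑ ψ ∈ infl M z, (c s ψ : ℂ) * (c s ψ : ℂ) = 9 by exact_mod_cast this]
    simp only [hT]
    ring
  have hFreg : ∀ a, ∀ y ∈ regs K, F a y = ∑ ψ ∈ infl M z, (a ψ : ℂ) * (ψ : K → ℂ) y := by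
    intro a y hy
    simp only [hF, hY, sub_mul, Finset.sum_sub_distrib, Finset.sum_mul]
    rw [Finset.sum_comm]
    simp only [mul_assoc, ← Finset.mul_sum, col_reg S hzc hx hc hM _ hy, mul_zero,
      Finset.sum_const_zero, sub_zero]
  have hFout : ∀ a h, Outer z h → F a h = 0 := by
    intro a h hh
    obtain ⟨s, hs⟩ := outer_value S hzc hx hM hh
    simp only [hF]
    rw [← hYT a s]
    refine Finset.sum_congr rfl fun ψ hψ => ?_
    rw [hs ψ (mem_bset.1 (Finset.mem_filter.1 hψ).1), hc s ψ]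
  have hFz : ∀ a h, F a (z * h) = 1 * F a h := by
    intro a h
    rw [one_mul]
    refine Finset.sum_congr rfl fun ψ hψ => ?_
    rw [zeta_mul S hzc, (Finset.mem_filter.1 hψ).2, one_mul]
  have key := card_mul_inner S hzc hx (F n) (F n') (fun h hh => by rw [hFout n h hh, zero_mul])
    (hFz n) (hFz n')
  have hconj : ∀ ψ, conj (Y n' ψ) = Y n' ψ := by
    intro ψ
    simp [hY, hT, map_sum, map_ofNat]
  have hi : classInner (F n) (F n') = ((∑ ψ ∈ infl M z, n ψ * n' ψ : ℤ) : ℂ) -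
      (∑ r, T n r * T n' r) / 9 := by
    rw [hF, classInner_comb]
    simp only [hconj]
    have e : ∀ ψ, Y n ψ * Y n' ψ = Y n ψ * (n' ψ : ℂ) - ∑ r, T n' r / 9 * (Y n ψ * (c r ψ : ℂ)) := by
      intro ψ
      conv_lhs => rw [show Y n' ψ = (n' ψ : ℂ) - ∑ r, T n' r / 9 * (c r ψ : ℂ) from rfl]
      rw [mul_sub, Finset.mul_sum]
      exact congrArg _ (Finset.sum_congr rfl fun r _ => by ring)
    rw [Finset.sum_congr rfl fun ψ _ => e ψ, Finset.sum_sub_distrib, Finset.sum_comm]
    simp only [← Finset.mul_sum, hYT, mul_zero, Finset.sum_const_zero, sub_zero]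
    simp only [hY, sub_mul, Finset.sum_sub_distrib, Finset.sum_mul]
    rw [Finset.sum_comm, Int.cast_sum, Finset.sum_div]
    congr 1
    · exact Finset.sum_congr rfl fun ψ _ => by push_cast; ring
    · refine Finset.sum_congr rfl fun r _ => ?_
      simp only [mul_assoc, ← Finset.mul_sum]
      rw [show ∑ ψ ∈ infl M z, (c r ψ : ℂ) * (n' ψ : ℂ) = T n' r from
        Finset.sum_congr rfl fun ψ _ => mul_comm _ _]
      ring
  have hrho : rho (F n) (F n') = rho (ξ : K → ℂ) (η : K → ℂ) :=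
    Finset.sum_congr rfl fun y hy => by rw [hFreg n y hy, hFreg n' y hy, hn y hy, hn' y hy]
  rw [hi, hrho, map_one, mul_one, mul_one, show (1 : ℂ) + 1 + 1 = 3 by norm_num,
    om_orth S hzc hx hM hw hξ hη] at key
  have hne : (Nat.card K : ℂ) ≠ 0 := Nat.cast_ne_zero.2 Nat.card_pos.ne'
  have h2 : ((9 * ∑ ψ ∈ infl M z, n ψ * n' ψ : ℤ) : ℂ) =
      ((∑ r, (∑ ψ ∈ infl M z, n ψ * c r ψ) * (∑ ψ ∈ infl M z, n' ψ * c r ψ) +
        if ξ = η then 9 else 0 : ℤ) : ℂ) := by
    push_cast at key ⊢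
    refine mul_left_cancel₀ hne ?_
    simp only [hT] at key
    split_ifs at key ⊢ with e <;> linear_combination (9 : ℂ) * key
  exact_mod_cast h2

/-- The invariants of the block and small lifts. -/
theorem center_main (hM : IsPModular 3 M) {w : ℂ} (hw : IsPrimitiveRoot w 3) {j : ℕ} (F : Flip K j)
    (hR : ¬ 3 ∣ Fintype.card ι) :
    (om M z w).card + Fintype.card ι = 6 ∧
      ∀ ξ ∈ om M z w, ∃ m : IrrCharacter K → ℤ, (∀ ψ ∉ infl M z, m ψ = 0) ∧
        (∀ y ∈ regs K, ∑ ψ ∈ infl M z, (m ψ : ℂ) * (ψ : K → ℂ) y = (ξ : K → ℂ) y) ∧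
        ∑ ψ ∈ infl M z, m ψ * m ψ = 2 ∧
        ∃ r, (∑ ψ ∈ infl M z, m ψ * c r ψ = 3 ∨ ∑ ψ ∈ infl M z, m ψ * c r ψ = -3) ∧
          ∀ s, s ≠ r → ∑ ψ ∈ infl M z, m ψ * c s ψ = 0 := by
  classical
  set I : Finset (IrrCharacter K) := infl M z with hI
  have hone : oneIrr K ∈ I := Finset.mem_filter.2 ⟨mem_bset.2 (oneIrr_mem hM), by simp [zeta, oneIrr]⟩
  have hsum : ∀ f : IrrCharacter K → ℤ, ∑ i : I, f i = ∑ ψ ∈ I, f ψ := fun f =>
    Finset.sum_coe_sort I f
  have hsumC : ∀ f : IrrCharacter K → ℂ, ∑ i : I, f i = ∑ ψ ∈ I, f ψ := fun f =>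
    Finset.sum_coe_sort I f
  haveI hne : Nonempty ι := by
    rcases isEmpty_or_nonempty ι with h | h
    · exact absurd (by rw [Fintype.card_eq_zero]; exact dvd_zero 3) hR
    · exact h
  set C : ι → I → ℤ := fun r i => c r i with hC
  have hcong : ∀ r s ψ, 3 ∣ c r ψ - c s ψ := fun r s ψ => by
    have h1 := int_cong S hx hM ψ (hc r ψ)
    have h2 := int_cong S hx hM ψ (hc s ψ)
    omega
  have hc1 : ∀ r, c r (oneIrr K) = 1 := fun r => by
    have := hc r (oneIrr K)
    rw [show (oneIrr K).1 (x r) = 1 by simp [oneIrr]] at this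
    exact_mod_cast this.symm
  have hcols : Lattice.Cols C ⟨oneIrr K, hone⟩ := by
    refine ⟨fun r => ?_, fun r s hrs => ?_, fun r => hc1 r, fun r s i => hcong r s i, hne⟩
    · rw [hsum fun ψ => c r ψ * c r ψ, col_orth S hzc hx hc hM, if_pos rfl]
    · rw [hsum fun ψ => c r ψ * c s ψ, col_orth S hzc hx hc hM, if_neg hrs]
  have hrows : ∀ i : I, ∃ r, C r i ≠ 0 := by
    rintro ⟨ψ, hψ⟩
    by_contra hcon
    push Not at hcon
    have h1 : ψ ≠ oneIrr K := fun e => by
      obtain ⟨r⟩ := hne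
      have := hcon r
      simp only [hC, e, hc1] at this
      exact one_ne_zero this
    obtain ⟨hψB, hψz⟩ := Finset.mem_filter.1 hψ
    have key := card_mul_inner S hzc hx (ψ : K → ℂ) (oneIrr K : K → ℂ) (a := 1) (b := 1)
      (fun h hh => by
        obtain ⟨r, hr⟩ := outer_value S hzc hx hM hh
        have e : c r ψ = 0 := hcon r
        rw [hr ψ (mem_bset.1 hψB), hc r ψ, e, Int.cast_zero, zero_mul])
      (fun h => by rw [zeta_mul S hzc, hψz]) (fun h => by simp [oneIrr])
    rw [classInner_irr_ne ψ.2 (oneIrr K).2 (fun e => h1 (Subtype.ext e)), mul_zero] at key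
    simp only [map_one, mul_one] at key
    refine regS_one_ne hM (mem_bset.1 hψB) ?_
    have h3 := (mul_eq_zero.1 key.symm).resolve_left (by norm_num)
    rw [rho] at h3
    rw [← h3]
    exact Finset.sum_congr rfl fun y _ => by simp [oneIrr]
  have hsmall : ∀ ξ ∈ om M z w, ∃ m : IrrCharacter K → ℤ, (∀ ψ ∉ infl M z, m ψ = 0) ∧
      (∀ y ∈ regs K, ∑ ψ ∈ infl M z, (m ψ : ℂ) * (ψ : K → ℂ) y = (ξ : K → ℂ) y) ∧
      ∑ ψ ∈ infl M z, m ψ * m ψ = 2 ∧
      ∃ r, (∑ ψ ∈ infl M z, m ψ * c r ψ = 3 ∨ ∑ ψ ∈ infl M z, m ψ * c r ψ = -3) ∧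
        ∀ s, s ≠ r → ∑ ψ ∈ infl M z, m ψ * c s ψ = 0 := by
    intro ξ hξ
    obtain ⟨n, hn0, hn⟩ := exists_lift S hzc hM (mem_bset.1 (Finset.mem_filter.1 hξ).1)
    set ext : (I → ℤ) → IrrCharacter K → ℤ :=
      fun m ψ => if h : ψ ∈ I then m ⟨ψ, h⟩ else 0 with hext
    have hext' : ∀ m (i : I), ext m i = m i := fun m i => by simp [hext, i.2]
    have hlift : ∀ m : I → ℤ, Lattice.SameRes C (fun i => n i) m →
        ∀ y ∈ regs K, ∑ ψ ∈ I, (ext m ψ : ℂ) * (ψ : K → ℂ) y = (ξ : K → ℂ) y := by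
      intro m hm y hy
      have := hm (fun i => (i : IrrCharacter K).1 y) (fun r => by
        rw [hsumC fun ψ => (c r ψ : ℂ) * (ψ : K → ℂ) y]
        exact col_reg S hzc hx hc hM r hy)
      rw [hsumC fun ψ => (n ψ : ℂ) * (ψ : K → ℂ) y, hn y hy] at this
      rw [← hsumC fun ψ => (ext m ψ : ℂ) * (ψ : K → ℂ) y]
      simpa only [hext'] using this
    obtain ⟨m, hm, hm2, r, hr, hrs⟩ := Lattice.exists_small hcols hR hrows (fun i => n i)
      (fun m hm => by
        have := lift_norm S hzc hx hc hM hw hξ hξ (hlift m hm) (hlift m hm)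
        rw [if_pos rfl] at this
        simp only [← hI, ← hsum] at this
        simpa only [hext', hC] using this)
    refine ⟨ext m, fun ψ hψ => dif_neg hψ, hlift m hm, ?_, r, ?_, fun s hs => ?_⟩
    · rw [← hsum fun ψ => ext m ψ * ext m ψ]
      simpa only [hext'] using hm2
    · rw [← hsum fun ψ => ext m ψ * c r ψ]
      simpa only [hext', hC] using hr
    · rw [← hsum fun ψ => ext m ψ * c s ψ]
      simpa only [hext', hC] using hrs s hs
  refine ⟨?_, hsmall⟩
  have hNZ : (Lattice.NZ C).card = I.card := by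
    rw [show Lattice.NZ C = Finset.univ from
      Finset.eq_univ_of_forall fun i => Lattice.mem_NZ.2 (hrows i), Finset.card_univ,
      Fintype.card_coe]
  have hI2 := card_infl S hzc hx hM hw F
  rw [← hI] at hI2
  rcases hcols.shape (deg := fun i => (charDegree (i : IrrCharacter K).1 : ℤ)) (by
      simp [charDegree, oneIrr]) (fun r => by
      have h := FewChars.column_degree hM (S.exists_order (hx.out r)) (S.out_ne_one (hx.out r))
        (p := 3)
      rw [← Finset.sum_subset (show I ⊆ bset (principalBlock M K) from Finset.filter_subset _ _)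
        (fun ψ hψ hψ' => by
          rw [nontrivial_out S hzc hx (fun e => hψ' (Finset.mem_filter.2 ⟨hψ, e⟩)) r, zero_mul])] at h
      rw [hsum fun ψ => c r ψ * (charDegree (ψ : K → ℂ) : ℤ)]
      simp only [hc] at h
      exact_mod_cast h) with ⟨hι, h9, hspec⟩ | ⟨h6, -, -⟩
  · exfalso
    obtain ⟨ξ, hξ⟩ : (om M z w).Nonempty := Finset.card_pos.1 (by
      rw [← rank_eq S hzc hx hM hw]
      exact blockRank_pos hM principalBlock_isPBlock)
    obtain ⟨m, -, -, hm2, r, hr, -⟩ := hsmall ξ hξ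
    have hone : ∀ ψ ∈ I, c r ψ * c r ψ = 1 := fun ψ hψ => by
      rcases hcols.cases r ⟨ψ, hψ⟩ with e | e | e | e | e
      · exact absurd e (hcols.ne_zero (Lattice.mem_NZ.2 (hrows ⟨ψ, hψ⟩)) r)
      · rw [show c r ψ = 1 from e]; norm_num
      · rw [show c r ψ = -1 from e]; norm_num
      · exact absurd (Lattice.mem_Spec.2 (Or.inl e)) (by rw [hspec r]; simp)
      · exact absurd (Lattice.mem_Spec.2 (Or.inr e)) (by rw [hspec r]; simp)
    have hle : ∀ ψ ∈ I, 2 * (m ψ * c r ψ) ≤ 2 * (m ψ * m ψ) ∧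
        -(2 * (m ψ * m ψ)) ≤ 2 * (m ψ * c r ψ) := fun ψ hψ => by
      have := hone ψ hψ
      have hmm : m ψ = 0 ∨ 1 ≤ m ψ * m ψ := by
        rcases eq_or_ne (m ψ) 0 with e | e
        · exact Or.inl e
        · exact Or.inr (Int.add_one_le_iff.2 (mul_self_pos.2 e))
      rcases hmm with e | e
      · simp [e]
      · constructor <;> nlinarith [sq_nonneg (m ψ - c r ψ), sq_nonneg (m ψ + c r ψ)]
    have h1 := Finset.sum_le_sum fun ψ hψ => (hle ψ hψ).1
    have h2 := Finset.sum_le_sum fun ψ hψ => (hle ψ hψ).2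
    rw [Finset.sum_neg_distrib] at h2
    simp only [← Finset.mul_sum] at h1 h2
    simp only [← hI] at hm2 hr
    omega
  · omega

end center

end CfsgLib.Blocks.ThreeExtra
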