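import Cfsg.Agent.Lib.Blocks.ThreeExtra.Main

/-!
# Number of characters, of height zero characters and rank
-/

namespace CfsgLib.Blocks.ThreeExtra

open Cfsg Subgroup CfsgLib.CharTheory CfsgLib.Blocks
open scoped ComplexConjugate

set_option linter.unusedSectionVars false
set_option linter.style.haveILetI false

universe u v

/-- A flip exponent for a finite group. -/
theorem exists_flip {G : Type u} [Group G] [Finite G] (h3 : 3 ∣ Nat.card G) :
    ∃ j : ℕ, Flip G j := by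
  haveI : Fact (Nat.Prime 3) := ⟨Nat.prime_three⟩
  obtain ⟨a, ha⟩ : ∃ a, (Nat.card G).factorization 3 = a := ⟨_, rfl⟩
  set q := Nat.card G / 3 ^ a with hq
  have hne : Nat.card G ≠ 0 := Nat.card_pos.ne'
  have hc3 : Nat.Coprime 3 q := by rw [hq, ← ha]; exact Nat.coprime_ordCompl Nat.prime_three hne
  have hcop : Nat.Coprime (3 ^ a) q := hc3.pow_left a
  have hcard : Nat.card G = 3 ^ a * q := by rw [hq, ← ha, Nat.ordProj_mul_ordCompl_eq_self]
  have ha0 : a ≠ 0 := by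
    rintro rfl
    rw [pow_zero, one_mul] at hcard
    rw [hcard] at h3
    exact absurd (Nat.eq_one_of_dvd_coprimes hc3 dvd_rfl h3) (by norm_num)
  have hpos : 1 ≤ 3 ^ a := Nat.one_le_pow _ _ (by norm_num)
  obtain ⟨j, hj3, hjq⟩ := Nat.chineseRemainder hcop (3 ^ a - 1) 1
  have hneg : (j : ℤ) ≡ -1 [ZMOD (3 ^ a : ℕ)] := by
    have h1 : (j : ℤ) ≡ ((3 ^ a - 1 : ℕ) : ℤ) [ZMOD (3 ^ a : ℕ)] := Int.natCast_modEq_iff.2 hj3
    refine h1.trans (Int.modEq_iff_dvd.2 ⟨-1, ?_⟩)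
    rw [Nat.cast_sub hpos]
    push_cast
    ring
  have hone : (j : ℤ) ≡ 1 [ZMOD (q : ℤ)] := by exact_mod_cast Int.natCast_modEq_iff.2 hjq
  have hsq : j * j ≡ 1 [MOD Nat.card G] := by
    rw [hcard, ← Nat.modEq_and_modEq_iff_modEq_mul hcop]
    constructor
    · refine Int.natCast_modEq_iff.1 ?_
      push_cast
      simpa using hneg.mul hneg
    · simpa using hjq.mul hjq
  refine ⟨j, ?_, fun y hy => ?_, fun y hy => ?_, fun y => ?_⟩
  · refine Nat.Coprime.coprime_mul_right (k := j) ?_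
    rw [Nat.coprime_iff_gcd_eq_one, hsq.gcd_eq, Nat.gcd_one_left]
  · have hd : orderOf y ∣ q := CharTheory.dvd_of_coprime_right
      (show orderOf y ∣ q * 3 ^ a by rw [mul_comm, ← hcard]; exact orderOf_dvd_natCard y)
      ((Nat.prime_three.coprime_iff_not_dvd.2 hy).symm.pow_right a)
    exact (pow_eq_pow_iff_modEq.2 (hjq.of_dvd hd)).trans (pow_one y)
  · have hd : orderOf y ∣ 3 ^ a := (orderOf_dvd_of_pow_eq_one hy).trans (dvd_pow_self 3 ha0)
    have h1 : (j : ℤ) ≡ -1 [ZMOD (orderOf y : ℤ)] :=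
      hneg.of_dvd (Int.natCast_dvd_natCast.2 hd)
    calc y ^ j = y ^ (j : ℤ) := (zpow_natCast y j).symm
      _ = y ^ (-1 : ℤ) := zpow_eq_zpow_iff_modEq.2 h1
      _ = y⁻¹ := zpow_neg_one y
  · rw [← pow_mul]
    exact (pow_eq_pow_iff_modEq.2 (hsq.of_dvd (orderOf_dvd_natCard y))).trans (pow_one y)

variable {G : Type u} [Group G] [Fintype G] {M : Ideal AlgInt}
variable {P : Sylow 3 G} {z : G} [Fintype (Hz z)] {ι : Type v} [Fintype ι] {x : ι → G}
  (S : Setup P z) (hx : Reps P z x)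

include S hx

variable {s : IrrCharacter (Hz z) → IrrCharacter G → ℤ}
  (hs : ∀ ψ χ, classInner (fun h : Hz z => (χ : IrrCharacter G).1 h) (ψ : IrrCharacter (Hz z)).1 =
    (s ψ χ : ℂ))

include hs

/-- No character of the block vanishes on everything singular. -/
theorem row_false (hM : IsPModular 3 M) {w : ℂ} (hw : IsPrimitiveRoot w 3) {j : ℕ} (F : Flip G j)
    (hR : Nonempty ι) {χ : IrrCharacter G} (hχ : χ ∈ principalBlock M G)
    (hc0 : ∀ r, (χ : G → ℂ) (x r) = 0)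
    {m : IrrCharacter (Hz z) → IrrCharacter (Hz z) → ℤ}
    (hm : ∀ ξ ∈ om M (⟨z, S.le_H S.mem⟩ : Hz z) w, ∀ y ∈ regs (Hz z),
      ∑ ψ ∈ infl M (⟨z, S.le_H S.mem⟩ : Hz z), (m ξ ψ : ℂ) * (ψ : Hz z → ℂ) y = (ξ : Hz z → ℂ) y)
    (hD : ∀ ξ ∈ om M (⟨z, S.le_H S.mem⟩ : Hz z) w, s (flipIrr (F.sub (Hz z)) ξ) χ = s ξ χ)
    (hU : ∀ ξ ∈ om M (⟨z, S.le_H S.mem⟩ : Hz z) w,
      s ξ χ = ∑ ψ ∈ infl M (⟨z, S.le_H S.mem⟩ : Hz z), m ξ ψ * s ψ χ) : False := by
  classical
  have SH := S.toH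
  set zH : Hz z := ⟨z, S.le_H S.mem⟩ with hzH
  have hzc : zH ∈ Subgroup.center (Hz z) := z_center S
  have hxH := reps_toH S hx
  set A : Hz z → ℂ := fun h => ∑ ξ ∈ om M zH w, (s ξ χ : ℂ) * (ξ : Hz z → ℂ) h with hA
  set g : Hz z → ℂ := fun h => ∑ ψ ∈ infl M zH, (s ψ χ : ℂ) * (ψ : Hz z → ℂ) h with hg
  have hgout : ∀ h, Outer zH h → g h = 0 := by
    intro h hh
    obtain ⟨r, hr⟩ := outer_value SH hzc hxH hM hh
    have h1 := res_val S hx hs hM hχ r
    rw [hc0 r] at h1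
    simp only [hg]
    rw [← h1, infl, Finset.sum_filter]
    refine Finset.sum_congr rfl fun ψ hψ => ?_
    by_cases e : zeta zH ψ = 1
    · rw [if_pos e, hr ψ (mem_bset.1 hψ)]
    · rw [if_neg e, show (ψ : Hz z → ℂ) ⟨x r, S.le_H (hx.out r).1⟩ = 0 from
        nontrivial_out SH hzc hxH e r, mul_zero]
  have hgz : ∀ h, g (zH * h) = 1 * g h := by
    intro h
    rw [one_mul]
    refine Finset.sum_congr rfl fun ψ hψ => ?_
    rw [zeta_mul SH hzc, (Finset.mem_filter.1 hψ).2, one_mul]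
  have hcoef : ∀ φ ∈ infl M zH, classInner g (φ : Hz z → ℂ) = (s φ χ : ℂ) := by
    intro φ hφ
    rw [show g = ∑ ψ ∈ infl M zH, (s ψ χ : ℂ) • (ψ : Hz z → ℂ) by funext h; simp [hg],
      classInner_sum_left, Finset.sum_eq_single_of_mem φ hφ (fun ψ _ hne => by
        rw [classInner_smul_left, classInner_irr_ne ψ.2 φ.2 (fun e => hne (Subtype.ext e)),
          mul_zero]), classInner_smul_left, classInner_irr_self φ.2, mul_one]
  have hrho : ∀ φ ∈ infl M zH, (Nat.card (Hz z) : ℂ) * (s φ χ : ℂ) = 3 * rho g (φ : Hz z → ℂ) := by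
    intro φ hφ
    rw [← hcoef φ hφ, card_mul_inner SH hzc hxH g (φ : Hz z → ℂ) (a := 1) (b := 1)
      (fun h hh => by rw [hgout h hh, zero_mul]) hgz
      (fun h => by rw [zeta_mul SH hzc, (Finset.mem_filter.1 hφ).2]), map_one]
    norm_num
  have hne : (Nat.card (Hz z) : ℂ) ≠ 0 := Nat.cast_ne_zero.2 Nat.card_pos.ne'
  have hgA : ∀ y ∈ regs (Hz z), g y = A y := by
    intro y hy
    rw [expand SH hzc hxH hM hw (f := g) (fun ψ => if ψ ∈ infl M zH then (s ψ χ : ℂ) else 0)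
      (fun t _ => by
        simp only [hg, ite_mul, zero_mul, ← Finset.sum_filter]
        rw [show (bset (principalBlock M (Hz z))).filter (· ∈ infl M zH) = infl M zH by
          ext ψ; simp [infl]]) hy]
    refine Finset.sum_congr rfl fun ξ hξ => ?_
    congr 1
    rw [div_eq_iff hne, hU ξ hξ]
    have e : rho g (ξ : Hz z → ℂ) = ∑ φ ∈ infl M zH, (m ξ φ : ℂ) * rho g (φ : Hz z → ℂ) := by
      simp only [rho, Finset.mul_sum]
      rw [Finset.sum_comm]
      refine Finset.sum_congr rfl fun t ht => ?_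
      rw [← hm ξ hξ t ht, map_sum, Finset.mul_sum]
      exact Finset.sum_congr rfl fun φ _ => by rw [map_mul, map_intCast]; ring
    rw [e, Finset.mul_sum, Int.cast_sum, Finset.sum_mul]
    refine Finset.sum_congr rfl fun φ hφ => ?_
    rw [Int.cast_mul, mul_left_comm, ← hrho φ hφ]
    ring
  -- the three parts of the block
  have hsplit : ∀ f : IrrCharacter (Hz z) → ℂ, ∑ ψ ∈ bset (principalBlock M (Hz z)), f ψ =
      ∑ ψ ∈ infl M zH, f ψ + ∑ ξ ∈ om M zH w, (f ξ + f (flipIrr (F.sub (Hz z)) ξ)) := by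
    intro f
    have h2 : ∑ ξ ∈ om M zH w, f (flipIrr (F.sub (Hz z)) ξ) = ∑ ξ ∈ om M zH (w ^ 2), f ξ := by
      refine Finset.sum_bij' (fun ξ _ => flipIrr (F.sub (Hz z)) ξ)
        (fun ξ _ => flipIrr (F.sub (Hz z)) ξ) ?_ ?_ (fun ξ _ => flipIrr_flipIrr _ ξ)
        (fun ξ _ => flipIrr_flipIrr _ ξ) (fun ξ _ => rfl)
      · intro ψ hψ
        simp only [om, Finset.mem_filter, mem_bset] at hψ ⊢
        exact ⟨flipIrr_mem _ hM hψ.1, by rw [flip_zeta SH hzc hxH, hψ.2]⟩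
      · intro ψ hψ
        simp only [om, Finset.mem_filter, mem_bset] at hψ ⊢
        refine ⟨flipIrr_mem _ hM hψ.1, ?_⟩
        rw [flip_zeta SH hzc hxH, hψ.2, ← pow_mul, show 2 * 2 = 3 + 1 from rfl, pow_succ,
          hw.pow_eq_one, one_mul]
    rw [Finset.sum_add_distrib, h2, infl, om, om, Finset.sum_filter, Finset.sum_filter,
      Finset.sum_filter, ← Finset.sum_add_distrib, ← Finset.sum_add_distrib]
    refine Finset.sum_congr rfl fun ψ _ => ?_
    rcases zeta_cases SH hzc hw ψ with e | e | e <;>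
      simp [e, w_ne_one hw, w_sq_ne_one hw, w_sq_ne hw, (w_ne_one hw).symm,
        (w_sq_ne_one hw).symm, (w_sq_ne hw).symm]
  have hzero : ∀ v ∈ zpowers zH, v ≠ 1 → ∀ y : Hz z, ¬ 3 ∣ orderOf y →
      (χ : G → ℂ) ((v * y : Hz z) : G) = 0 := by
    intro v hv hv1 y hy
    have hy' : y ∈ regs (Hz z) := mem_regs.2 hy
    rw [z_section S hs hM hχ hv hv1 hy, hsplit]
    have hflip : ∀ ξ, (flipIrr (F.sub (Hz z)) ξ : Hz z → ℂ) y = (ξ : Hz z → ℂ) y := fun ξ =>
      flipIrr_reg _ ξ hy'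
    rcases mem_zpowers_cases SH.z_pow hv with rfl | rfl | rfl
    · exact absurd rfl hv1
    · rw [Finset.sum_congr rfl (s₁ := infl M zH) (g := fun ψ => (s ψ χ : ℂ) * (ψ : Hz z → ℂ) y)
        (fun ψ hψ => by rw [zeta_mul SH hzc, (Finset.mem_filter.1 hψ).2, one_mul]),
        Finset.sum_congr rfl (s₁ := om M zH w) (g := fun ξ => (w + w ^ 2) * ((s ξ χ : ℂ) * (ξ : Hz z → ℂ) y))
        (fun ξ hξ => by
          rw [zeta_mul SH hzc, zeta_mul SH hzc, flip_zeta SH hzc hxH, (Finset.mem_filter.1 hξ).2,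
            hD ξ hξ, hflip]
          ring), ← Finset.mul_sum]
      show g y + (w + w ^ 2) * A y = 0
      rw [hgA y hy']
      linear_combination A y * w_sum hw
    · rw [Finset.sum_congr rfl (s₁ := infl M zH) (g := fun ψ => (s ψ χ : ℂ) * (ψ : Hz z → ℂ) y)
        (fun ψ hψ => by rw [zeta_inv_mul SH hzc, (Finset.mem_filter.1 hψ).2, one_pow, one_mul]),
        Finset.sum_congr rfl (s₁ := om M zH w) (g := fun ξ => (w + w ^ 2) * ((s ξ χ : ℂ) * (ξ : Hz z → ℂ) y))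
        (fun ξ hξ => by
          rw [zeta_inv_mul SH hzc, zeta_inv_mul SH hzc, flip_zeta SH hzc hxH,
            (Finset.mem_filter.1 hξ).2, hD ξ hξ, hflip]
          have h3 := hw.pow_eq_one
          linear_combination ((s ξ χ : ℂ) * (ξ : Hz z → ℂ) y * w) * h3), ← Finset.mul_sum]
      show g y + (w + w ^ 2) * A y = 0
      rw [hgA y hy']
      linear_combination A y * w_sum hw
  -- so the character vanishes on all singular elements
  have hall : ∀ h : G, 3 ∣ orderOf h → (χ : G → ℂ) h = 0 := by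
    intro h hh
    obtain ⟨u, y, rfl, hc, hu1, hu, hy⟩ := exists_part hM hh
    rcases S.elt_cases hu hu1 with e | e | ⟨v, hv, e⟩
    · obtain ⟨c, hcc⟩ := isConj_iff.1 e
      rw [← irr_isClassFun χ (u * y) c, show c * (u * y) * c⁻¹ = z * (c * y * c⁻¹) by
        rw [← hcc]; group]
      have hc' : Commute z (c * y * c⁻¹) := by
        have := hc.map (MulAut.conj c).toMonoidHom
        simpa [← hcc, mul_assoc] using this
      exact hzero zH (mem_zpowers zH) SH.ne ⟨c * y * c⁻¹, mem_centralizer_singleton_iff.2 hc'.symm⟩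
        (by rw [← Subgroup.orderOf_coe, conj_orderOf]; exact hy)
    · obtain ⟨c, hcc⟩ := isConj_iff.1 e
      rw [← irr_isClassFun χ (u * y) c, show c * (u * y) * c⁻¹ = z⁻¹ * (c * y * c⁻¹) by
        rw [← hcc]; group]
      have hc' : Commute z (c * y * c⁻¹) := by
        have := hc.map (MulAut.conj c).toMonoidHom
        have h2 : Commute z⁻¹ (c * y * c⁻¹) := by simpa [← hcc, mul_assoc] using this
        exact Commute.inv_left_iff.1 h2
      exact hzero zH⁻¹ (inv_mem (mem_zpowers zH)) (inv_ne_one.2 SH.ne)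
        ⟨c * y * c⁻¹, mem_centralizer_singleton_iff.2 hc'.symm⟩
        (by rw [← Subgroup.orderOf_coe, conj_orderOf]; exact hy)
    · obtain ⟨r, hr⟩ := hx.cover v hv
      obtain ⟨c, hcc⟩ := isConj_iff.1 (e.trans hr)
      rw [← irr_isClassFun χ (u * y) c, show c * (u * y) * c⁻¹ = x r * (c * y * c⁻¹) by
        rw [← hcc]; group, S.out_const hM (hx.out r) (by
          have := hc.map (MulAut.conj c).toMonoidHom
          simpa [← hcc, mul_assoc] using this) (by rw [conj_orderOf]; exact hy) hχ, hc0 r]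
  have hne1 : χ ≠ oneIrr G := by
    rintro rfl
    obtain ⟨r⟩ := hR
    simpa [oneIrr] using hc0 r
  refine regS_one_ne hM hχ ?_
  have h0 := classInner_irr_ne χ.2 (oneIrr G).2 (fun e => hne1 (Subtype.ext e))
  rw [classInner, mul_eq_zero, inv_eq_zero] at h0
  have h1 := h0.resolve_left (Nat.cast_ne_zero.2 Nat.card_pos.ne')
  rw [regs, Finset.sum_filter]
  refine Eq.trans ?_ h1
  refine Finset.sum_congr rfl fun h _ => ?_
  by_cases hh : 3 ∣ orderOf h
  · rw [if_neg (not_not.2 hh), hall h hh, zero_mul]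
  · rw [if_pos hh]
    simp [oneIrr]

omit hs

/-- The invariants for outside elements conjugate to their inverses. -/
theorem invariants (hM : IsPModular 3 M) (hR : ¬ 3 ∣ Fintype.card ι) :
    Nat.card (principalBlock M G) + 2 * Fintype.card ι = 18 ∧
      Nat.card {χ : IrrCharacter G // χ ∈ principalBlock M G ∧
        blockHeight 3 (principalBlock M G) (χ : G → ℂ) = 0} = 6 ∧
      blockRank 3 (principalBlock M G) + Fintype.card ι = 6 := by
  classical
  have h3 : 3 ∣ Nat.card G := S.order_z ▸ orderOf_dvd_natCard z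
  obtain ⟨j, F⟩ := exists_flip h3
  set w : ℂ := Complex.exp (2 * Real.pi * Complex.I / 3) with hwdef
  have hw : IsPrimitiveRoot w 3 := by
    have := Complex.isPrimitiveRoot_exp 3 (by norm_num)
    simpa [hwdef] using this
  have SH := S.toH
  set zH : Hz z := ⟨z, S.le_H S.mem⟩ with hzH
  have hzc : zH ∈ Subgroup.center (Hz z) := z_center S
  have hxH := reps_toH S hx
  choose cG hcG using fun r χ => x_int S hx r χ
  choose cH hcH using fun r ψ => x_int SH hxH r ψ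
  choose s hs using fun (ψ : IrrCharacter (Hz z)) (χ : IrrCharacter G) =>
    (isGenChar_iff_coeff_int.1 (isGenChar_of_char (isCharacter_restrict_irr (Hz z) χ))).2 _ ψ.2
  haveI hne : Nonempty ι := by
    rcases isEmpty_or_nonempty ι with h | h
    · exact absurd (by rw [Fintype.card_eq_zero]; exact dvd_zero 3) hR
    · exact h
  obtain ⟨hom, hsmall⟩ := center_main SH hzc hxH hcH hM hw (F.sub (Hz z)) hR
  choose! m hm0 hmy hm2 r₀ hr₀ hr₀' using hsmall
  set BG := bset (principalBlock M G) with hBG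
  set BH := bset (principalBlock M (Hz z)) with hBH
  set σ := flipIrr (F.sub (Hz z)) with hσ
  set t : (IrrCharacter (Hz z) → ℤ) → IrrCharacter G → ℤ :=
    fun a χ => ∑ ψ ∈ BH, a ψ * s ψ χ with ht
  set dv' : IrrCharacter (Hz z) → IrrCharacter (Hz z) → ℤ :=
    fun ξ ψ => (if ψ = ξ then 1 else 0) - (if ψ = σ ξ then 1 else 0) with hdv
  set uv : IrrCharacter (Hz z) → IrrCharacter (Hz z) → ℤ :=
    fun ξ ψ => (if ψ = ξ then 1 else 0) - m ξ ψ with huv
  have hinflsub : infl M zH ⊆ BH := Finset.filter_subset _ _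
  have hmB : ∀ ξ ∈ om M zH w, ∀ f : IrrCharacter (Hz z) → ℤ,
      ∑ ψ ∈ BH, m ξ ψ * f ψ = ∑ ψ ∈ infl M zH, m ξ ψ * f ψ := fun ξ hξ f =>
    (Finset.sum_subset hinflsub fun ψ _ hψ => by rw [hm0 ξ hξ ψ hψ, zero_mul]).symm
  have homB : ∀ ξ ∈ om M zH w, ξ ∈ BH ∧ σ ξ ∈ BH ∧ σ ξ ≠ ξ := by
    intro ξ hξ
    obtain ⟨h1, h2⟩ := Finset.mem_filter.1 hξ
    refine ⟨h1, mem_bset.2 (flipIrr_mem _ hM (mem_bset.1 h1)), fun e => ?_⟩
    have := congrArg (zeta zH) e
    rw [hσ, flip_zeta SH hzc hxH, h2] at this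
    exact w_sq_ne hw this
  have hσinj : ∀ ξ η, σ ξ = σ η → ξ = η := fun ξ η e => by
    have := congrArg σ e
    rwa [hσ, flipIrr_flipIrr, flipIrr_flipIrr] at this
  have hσom : ∀ ξ ∈ om M zH w, ∀ η ∈ om M zH w, σ ξ ≠ η := fun ξ hξ η hη e => by
    have := congrArg (zeta zH) e
    rw [hσ, flip_zeta SH hzc hxH, (Finset.mem_filter.1 hξ).2, (Finset.mem_filter.1 hη).2] at this
    exact w_sq_ne hw this
  have hominfl : ∀ ξ ∈ om M zH w, ξ ∉ infl M zH ∧ σ ξ ∉ infl M zH := fun ξ hξ =>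
    ⟨fun h => w_ne_one hw ((Finset.mem_filter.1 hξ).2.symm.trans (Finset.mem_filter.1 h).2),
      fun h => w_sq_ne_one hw (by
        have := (Finset.mem_filter.1 h).2
        rwa [hσ, flip_zeta SH hzc hxH, (Finset.mem_filter.1 hξ).2] at this)⟩
  have hd : ∀ ξ ∈ om M zH w, ∀ f : IrrCharacter (Hz z) → ℤ,
      ∑ ψ ∈ BH, dv' ξ ψ * f ψ = f ξ - f (σ ξ) := fun ξ hξ f => by
    simp [hdv, sub_mul, Finset.sum_sub_distrib, (homB ξ hξ).1, (homB ξ hξ).2.1]
  have hu : ∀ ξ ∈ om M zH w, ∀ f : IrrCharacter (Hz z) → ℤ,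
      ∑ ψ ∈ BH, uv ξ ψ * f ψ = f ξ - ∑ ψ ∈ infl M zH, m ξ ψ * f ψ := fun ξ hξ f => by
    rw [← hmB ξ hξ]
    simp [huv, sub_mul, Finset.sum_sub_distrib, (homB ξ hξ).1]
  have hdvan : ∀ ξ ∈ om M zH w, ∀ y ∈ regs (Hz z), fB M (dv' ξ) y = 0 := fun ξ hξ y hy => by
    have e : fB M (dv' ξ) y = (ξ : Hz z → ℂ) y - (σ ξ : Hz z → ℂ) y := by
      simp [fB, hdv, sub_mul, Finset.sum_sub_distrib, ← hBH, (homB ξ hξ).1, (homB ξ hξ).2.1]
    rw [e, hσ, flipIrr_reg _ _ hy, sub_self]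
  have huvan : ∀ ξ ∈ om M zH w, ∀ y ∈ regs (Hz z), fB M (uv ξ) y = 0 := fun ξ hξ y hy => by
    have e : fB M (uv ξ) y = (ξ : Hz z → ℂ) y -
        ∑ ψ ∈ BH, (m ξ ψ : ℂ) * (ψ : Hz z → ℂ) y := by
      simp [fB, huv, sub_mul, Finset.sum_sub_distrib, ← hBH, (homB ξ hξ).1]
    rw [e, ← Finset.sum_subset hinflsub (fun ψ _ hψ => by
      rw [hm0 ξ hξ ψ hψ, Int.cast_zero, zero_mul]), hmy ξ hξ y hy, sub_self]
  have hdot : ∀ a b : IrrCharacter (Hz z) → ℤ, (∀ y ∈ regs (Hz z), fB M a y = 0) →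
      (∀ y ∈ regs (Hz z), fB M b y = 0) →
      ∑ i : BG, t a i * t b i = ∑ ψ ∈ BH, a ψ * b ψ := fun a b ha hb =>
    (Finset.sum_coe_sort BG fun χ => t a χ * t b χ).trans (t_dot S hs hM ha hb)
  -- values at the representatives
  have hval : ∀ a : IrrCharacter (Hz z) → ℤ, (∀ y ∈ regs (Hz z), fB M a y = 0) → ∀ r,
      ∑ i : BG, t a i * cG r i = ∑ ψ ∈ BH, a ψ * cH r ψ := by
    intro a ha r
    rw [Finset.sum_coe_sort BG fun χ => t a χ * cG r χ]
    have h := t_val S hx hs hM ha r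
    simp only [hcG, hcH, map_intCast] at h
    exact_mod_cast h
  have hcU : ∀ ξ ∈ om M zH w, ∀ r,
      ∑ i : BG, t (uv ξ) i * cG r i = -∑ ψ ∈ infl M zH, m ξ ψ * cH r ψ := by
    intro ξ hξ r
    rw [hval _ (huvan ξ hξ) r, hu ξ hξ]
    have e : cH r ξ = 0 := by
      have := nontrivial_out SH hzc hxH (ψ := ξ)
        ((Finset.mem_filter.1 hξ).2 ▸ w_ne_one hw) r
      rw [hcH r ξ] at this
      exact_mod_cast this
    rw [e, zero_sub]
  have htsum : ∀ (ξ : IrrCharacter (Hz z)), ξ ∈ om M zH w → ∀ χ,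
      t (dv' ξ) χ = s ξ χ - s (σ ξ) χ := fun ξ hξ χ => hd ξ hξ fun ψ => s ψ χ
  -- the Galois action
  have hsflip : ∀ ψ χ, s ψ (flipIrr F χ) = s (σ ψ) χ := by
    intro ψ χ
    have h1 := hs ψ (flipIrr F χ)
    have h2 := hs (σ ψ) χ
    have e : classInner (fun h : Hz z => (flipIrr F χ : G → ℂ) h) (ψ : Hz z → ℂ) =
        classInner (fun h : Hz z => (χ : G → ℂ) h) (σ ψ : Hz z → ℂ) := by
      rw [← classInner_pow (F.sub (Hz z)).coprime (fun h : Hz z => (χ : G → ℂ) h)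
        (σ ψ : Hz z → ℂ)]
      congr 1
      funext h
      rw [hσ, flipIrr_apply, (F.sub (Hz z)).invol]
    rw [h1, h2] at e
    exact_mod_cast e
  let τ : BG → BG := fun i => ⟨flipIrr F i, mem_bset.2 (flipIrr_mem F hM (mem_bset.1 i.2))⟩
  set Ω := om M zH w with hΩ
  let C : ι → BG → ℤ := fun r i => cG r i
  let D : Ω → BG → ℤ := fun ξ i => t (dv' ξ) i
  let U : Ω → BG → ℤ := fun ξ i => t (uv ξ) i
  have ho : oneIrr G ∈ BG := mem_bset.2 (oneIrr_mem hM)
  have hsumG : ∀ f : IrrCharacter G → ℤ, ∑ i : BG, f i = ∑ χ ∈ BG, f χ := fun f =>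
    Finset.sum_coe_sort BG f
  have hcolG : ∀ r r', ((∑ χ ∈ BG, cG r χ * cG r' χ : ℤ) : ℂ) = ker M (x r) (x r') := by
    intro r r'
    rw [ker, Int.cast_sum]
    exact Finset.sum_congr rfl fun χ _ => by rw [Int.cast_mul, ← hcG, hcG r' χ, map_intCast]
  have hcongG : ∀ r r' χ, 3 ∣ cG r χ - cG r' χ := fun r r' χ => by
    have h1 := int_cong S hx hM χ (hcG r χ)
    have h2 := int_cong S hx hM χ (hcG r' χ)
    omega
  have hcols : Lattice.Cols C ⟨oneIrr G, ho⟩ := by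
    refine ⟨fun r => ?_, fun r r' hr => ?_, fun r => ?_, fun r r' i => hcongG r r' i, hne⟩
    · rw [hsumG fun χ => cG r χ * cG r χ]
      have := hcolG r r
      rw [S.out_sq hM (hx.out r)] at this
      exact_mod_cast this
    · rw [hsumG fun χ => cG r χ * cG r' χ]
      have := hcolG r r'
      rw [x_orth S hx hM hr] at this
      exact_mod_cast this
    · have := hcG r (oneIrr G)
      rw [show (oneIrr G : G → ℂ) (x r) = 1 by simp [oneIrr]] at this
      exact_mod_cast this.symm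
  have hpairs : Lattice.Pairs C ⟨oneIrr G, ho⟩ τ D U := by
    refine ⟨hcols, fun i => Subtype.ext (flipIrr_flipIrr F i), fun r i => ?_, fun ξ => ?_,
      fun ξ η hne => ?_, fun ξ i => ?_, fun ξ => ?_, fun ξ => ?_, fun ξ η hne => ?_,
      fun ξ η hne => ?_, fun ξ => ?_, fun i hC hD => ?_⟩
    · have h1 : (cG r (flipIrr F i) : ℂ) = (cG r i : ℂ) := by
        rw [← hcG, ← hcG, flipIrr_apply, F.inv _ (S.exp _ (hx.out r).1)]
        exact (classFun_eq_of_isConj (irr_isClassFun (i : IrrCharacter G))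
          (hx.inv _ (hx.out r))).symm
      exact_mod_cast h1
    · rw [hdot _ _ (hdvan ξ ξ.2) (hdvan ξ ξ.2), hd ξ ξ.2]
      simp [hdv, (homB ξ ξ.2).2.2, (homB ξ ξ.2).2.2.symm]
    · rw [hdot _ _ (hdvan ξ ξ.2) (hdvan η η.2), hd ξ ξ.2]
      have h1 : (ξ : IrrCharacter (Hz z)) ≠ η := fun e => hne (Subtype.ext e)
      have h2 : σ (ξ : IrrCharacter (Hz z)) ≠ σ (η : IrrCharacter (Hz z)) := fun e => h1 (hσinj _ _ e)
      simp [hdv, h1, h2, hσom ξ ξ.2 η η.2, (hσom η η.2 ξ ξ.2).symm]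
    · show t (dv' ξ) (flipIrr F i) = -t (dv' ξ) i
      rw [htsum ξ ξ.2, htsum ξ ξ.2, hsflip, hsflip]
      rw [show σ (σ (ξ : IrrCharacter (Hz z))) = ξ from flipIrr_flipIrr _ _]
      ring
    · rw [hdot _ _ (huvan ξ ξ.2) (huvan ξ ξ.2), hu ξ ξ.2]
      have h2 : ∑ ψ ∈ infl M zH, m ξ ψ * uv ξ ψ = -2 := by
        rw [← hm2 ξ ξ.2, ← Finset.sum_neg_distrib]
        refine Finset.sum_congr rfl fun ψ hψ => ?_
        simp only [huv, if_neg (fun e : ψ = ξ => (hominfl ξ ξ.2).1 (e ▸ hψ))]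
        ring
      rw [h2]
      simp [huv, hm0 ξ ξ.2 ξ (hominfl ξ ξ.2).1]
    · rw [hdot _ _ (huvan ξ ξ.2) (hdvan ξ ξ.2), hu ξ ξ.2]
      have h2 : ∑ ψ ∈ infl M zH, m ξ ψ * dv' ξ ψ = 0 := Finset.sum_eq_zero fun ψ hψ => by
        simp only [hdv, if_neg (fun e : ψ = ξ => (hominfl ξ ξ.2).1 (e ▸ hψ)),
          if_neg (fun e : ψ = σ ξ => (hominfl ξ ξ.2).2 (e ▸ hψ)), sub_zero, mul_zero]
      rw [h2]
      simp [hdv, (homB ξ ξ.2).2.2.symm]
    · rw [hdot _ _ (huvan ξ ξ.2) (hdvan η η.2), hu ξ ξ.2]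
      have h1 : (ξ : IrrCharacter (Hz z)) ≠ η := fun e => hne (Subtype.ext e)
      have h2 : ∑ ψ ∈ infl M zH, m ξ ψ * dv' η ψ = 0 := Finset.sum_eq_zero fun ψ hψ => by
        simp only [hdv, if_neg (fun e : ψ = η => (hominfl η η.2).1 (e ▸ hψ)),
          if_neg (fun e : ψ = σ η => (hominfl η η.2).2 (e ▸ hψ)), sub_zero, mul_zero]
      rw [h2]
      simp [hdv, h1, (hσom η η.2 ξ ξ.2).symm]
    · have h1 : (ξ : IrrCharacter (Hz z)) ≠ η := fun e => hne (Subtype.ext e)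
      have h2 := lift_norm SH hzc hxH hcH hM hw ξ.2 η.2 (hmy ξ ξ.2) (hmy η η.2)
      rw [if_neg h1, add_zero] at h2
      rw [hdot _ _ (huvan ξ ξ.2) (huvan η η.2), hu ξ ξ.2]
      have h3 : ∑ ψ ∈ infl M zH, m ξ ψ * uv η ψ = -∑ ψ ∈ infl M zH, m ξ ψ * m η ψ := by
        rw [← Finset.sum_neg_distrib]
        refine Finset.sum_congr rfl fun ψ hψ => ?_
        simp only [huv, if_neg (fun e : ψ = η => (hominfl η η.2).1 (e ▸ hψ))]
        ring
      rw [h3, show uv η ξ = 0 by simp [huv, h1, hm0 η η.2 ξ (hominfl ξ ξ.2).1], zero_sub, neg_neg, h2]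
      refine Finset.sum_congr rfl fun r _ => ?_
      show _ = (∑ i : BG, t (uv ξ) i * cG r i) * (∑ i : BG, t (uv η) i * cG r i)
      rw [hcU ξ ξ.2, hcU η η.2]
      ring
    · refine ⟨r₀ ξ, ?_, fun r hr => ?_⟩
      · show (∑ i : BG, t (uv ξ) i * cG (r₀ ξ) i) = 3 ∨ (∑ i : BG, t (uv ξ) i * cG (r₀ ξ) i) = -3
        rw [hcU ξ ξ.2]
        rcases hr₀ ξ ξ.2 with e | e <;> rw [e] <;> norm_num
      · show ∑ i : BG, t (uv ξ) i * cG r i = 0
        rw [hcU ξ ξ.2, hr₀' ξ ξ.2 r hr, neg_zero]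
    · by_contra hU
      push Not at hU
      refine row_false S hx hs hM hw F hne (mem_bset.1 i.2) (fun r => by
        rw [hcG r i, show cG r i = 0 from hC r, Int.cast_zero]) (m := m) hmy (fun ξ hξ => ?_)
        (fun ξ hξ => ?_)
      · have h1 : t (dv' ξ) i = 0 := hD ⟨ξ, hξ⟩
        rw [htsum ξ hξ] at h1
        exact (sub_eq_zero.1 h1).symm
      · have h1 : t (uv ξ) i = 0 := hU ⟨ξ, hξ⟩
        exact sub_eq_zero.1 ((hu ξ hξ fun ψ => s ψ i).symm.trans h1)
  -- degrees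
  have hdeg : ∀ r, ∑ i : BG, C r i * (charDegree ((i : IrrCharacter G) : G → ℂ) : ℤ) = 0 := by
    intro r
    have h := FewChars.column_degree (p := 3) (M := M) hM (S.exists_order (hx.out r))
      (S.out_ne_one (hx.out r))
    rw [hsumG fun χ => cG r χ * (charDegree (χ : G → ℂ) : ℤ)]
    simp only [hcG] at h
    exact_mod_cast h
  obtain ⟨hNZ, hI⟩ := hpairs.main (deg := fun i : BG => (charDegree ((i : IrrCharacter G) : G → ℂ) : ℤ))
    (by simp [charDegree, oneIrr]) hdeg (by rw [Fintype.card_coe]; exact hom)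
  rw [Fintype.card_coe, Fintype.card_coe] at hI
  have hk : Nat.card (principalBlock M G) = BG.card := by
    rw [Nat.card_eq_fintype_card, ← Fintype.card_coe]
    exact Fintype.card_congr (Equiv.subtypeEquivRight fun ψ => mem_bset.symm)
  have hcount := card_block S hx.out hx.cover hx.sep hM
  have hlc : AbPrincipal.lc 3 M z = Ω.card := rank_eq SH hzc hxH hM hw
  refine ⟨by omega, ?_, by omega⟩
  -- height zero
  have hmin : minDv 3 (principalBlock M G) = 0 := by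
    have h1 : dv 3 (oneIrr G : G → ℂ) = 0 := by
      rw [dv, show charDegree (oneIrr G : G → ℂ) = 1 by simp [charDegree, oneIrr],
        Nat.factorization_one]; rfl
    have h2 := minDv_le (p := 3) (oneIrr_mem hM (G := G))
    omega
  have hht : ∀ i : BG, blockHeight 3 (principalBlock M G) ((i : IrrCharacter G) : G → ℂ) = 0 ↔
      i ∈ Lattice.NZ C := by
    intro i
    rw [blockHeight_eq, hmin, Nat.sub_zero, dv, Lattice.mem_NZ]
    have hpos := (charDegree_spec' (i : IrrCharacter G).2).2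
    have hdvd : (charDegree ((i : IrrCharacter G) : G → ℂ)).factorization 3 = 0 ↔
        ¬ 3 ∣ charDegree ((i : IrrCharacter G) : G → ℂ) := by
      rw [Nat.factorization_eq_zero_iff]
      simp [Nat.prime_three, hpos.ne']
    rw [hdvd]
    obtain ⟨r⟩ := hne
    have hcg := int_cong S hx hM (i : IrrCharacter G) (hcG r i)
    constructor
    · intro h
      refine ⟨r, fun h0 => h ?_⟩
      rw [show cG r i = 0 from h0] at hcg
      omega
    · rintro ⟨r', hr'⟩ h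
      have hne0 := hcols.ne_zero (Lattice.mem_NZ.2 ⟨r', hr'⟩) r
      rcases hcols.cases r i with e | e | e | e | e
      · exact hne0 e
      all_goals
        rw [show cG r i = _ from e] at hcg
        omega
  rw [← hNZ, ← Nat.card_eq_finsetCard]
  refine Nat.card_congr
    { toFun := fun χ => ⟨⟨χ.1, mem_bset.2 χ.2.1⟩, (hht _).1 χ.2.2⟩
      invFun := fun i => ⟨(i : BG).1, mem_bset.1 (i : BG).2, (hht _).2 i.2⟩
      left_inv := fun χ => rfl
      right_inv := fun i => rfl }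

end CfsgLib.Blocks.ThreeExtra
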