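import Cfsg.Agent.Lib.Blocks.ThreeExtra.Classes
import Cfsg.Agent.Lib.Blocks.FewChars.Section
import Cfsg.Agent.Lib.Blocks.SectionBound

/-!
# The block sums of products of values at singular elements
-/

namespace CfsgLib.Blocks.ThreeExtra

open Cfsg Subgroup CfsgLib.CharTheory CfsgLib.Blocks
open scoped ComplexConjugate

set_option linter.unusedSectionVars false
set_option linter.style.haveILetI false

universe u

variable {G : Type u} [Group G] [Fintype G] {M : Ideal AlgInt}

/-- The sum of the products of values over the principal block. -/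
noncomputable def ker (M : Ideal AlgInt) (g h : G) : ℂ :=
  ∑ χ ∈ bset (principalBlock M G), (χ : G → ℂ) g * conj ((χ : G → ℂ) h)

theorem ker_reg (hM : IsPModular 3 M) {g h : G} (hg : ¬ 3 ∣ orderOf g) (hh : 3 ∣ orderOf h) :
    ker M g h = 0 := weak_orth_conj hM principalBlock_isPBlock hg hh

theorem ker_sections (hM : IsPModular 3 M) {g h x y : G} (hx : IsPPart 3 g x) (hy : IsPPart 3 h y)
    (hne : ¬ IsConj x y) : ker M g h = 0 := by
  refine Eq.trans ?_ (block_orth hM principalBlock_isPBlock hx hy hne)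
  exact Finset.sum_congr rfl fun χ _ => by rw [irr_conjInv]

theorem exists_part (hM : IsPModular 3 M) {g : G} (hg : 3 ∣ orderOf g) :
    ∃ u y : G, u * y = g ∧ Commute u y ∧ u ≠ 1 ∧ (∃ k : ℕ, orderOf u = 3 ^ k) ∧
      ¬ 3 ∣ orderOf y := by
  obtain ⟨u, y, he, hc, hu, hy, -, -⟩ := exists_pPart hM.1 g
  refine ⟨u, y, he, hc, ?_, hu, hy⟩
  rintro rfl
  rw [one_mul] at he
  exact hy (he ▸ hg)

namespace Setup

variable {P : Sylow 3 G} {z : G} (S : Setup P z)

include S

theorem exists_order {x : G} (hx : Out P z x) : ∃ k : ℕ, orderOf x = 3 ^ k :=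
  haveI : Fact (Nat.Prime 3) := ⟨Nat.prime_three⟩
  ⟨1, by rw [orderOf_eq_prime (S.exp x hx.1) (S.out_ne_one hx), pow_one]⟩

/-- A nontrivial `3`-element is conjugate to `z`, to `z⁻¹` or to an outside element. -/
theorem elt_cases {u : G} (hu : ∃ k : ℕ, orderOf u = 3 ^ k) (hu1 : u ≠ 1) :
    IsConj u z ∨ IsConj u z⁻¹ ∨ ∃ v, Out P z v ∧ IsConj u v := by
  haveI : Fact (Nat.Prime 3) := ⟨Nat.prime_three⟩
  obtain ⟨k, hk⟩ := hu
  have hp : IsPGroup 3 (zpowers u) := IsPGroup.iff_card.2 ⟨k, by rw [Nat.card_zpowers, hk]⟩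
  obtain ⟨Q, hQ⟩ := hp.exists_le_sylow
  obtain ⟨g, hg⟩ := MulAction.exists_smul_eq G Q P
  have hv : g * u * g⁻¹ ∈ (P : Subgroup G) := by
    rw [← hg, Sylow.coe_subgroup_smul, mem_pointwise_smul_iff_inv_smul_mem]
    simpa [mul_assoc] using hQ (mem_zpowers u)
  by_cases hz : g * u * g⁻¹ ∈ zpowers z
  · rcases mem_zpowers_cases S.z_pow hz with h | h | h
    · exact absurd (conj_eq_one_iff.1 h) hu1
    · exact Or.inl (isConj_iff.2 ⟨g, h⟩)
    · exact Or.inr (Or.inl (isConj_iff.2 ⟨g, h⟩))
  · exact Or.inr (Or.inr ⟨_, ⟨hv, hz⟩, isConj_iff.2 ⟨g, rfl⟩⟩)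

theorem not_isConj_inv : ¬ IsConj z z⁻¹ := by
  intro h
  obtain ⟨g, hg⟩ := isConj_iff.1 h
  have := S.weak (g := g) (hg ▸ inv_mem S.mem)
  exact S.inv_ne (hg.symm.trans this)

theorem not_isConj_out {v : G} (hv : Out P z v) {w : G} (hw : w ∈ zpowers z) : ¬ IsConj v w := by
  intro h
  obtain ⟨g, hg⟩ := isConj_iff.1 h
  exact (S.out_conj hv (g := g) (hg ▸ S.zpowers_le hw)).2 (hg ▸ hw)

/-- A complement in the centraliser of an outside element. -/
theorem exists_complement {x : G} (hx : Out P z x) :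
    ∃ K : Subgroup (centralizer ({x} : Set G)), K.Normal ∧ ¬ 3 ∣ Nat.card K ∧ K.index = 3 ^ 2 := by
  haveI : Fact (Nat.Prime 3) := ⟨Nat.prime_three⟩
  obtain ⟨Q, K, hKn, hcpl⟩ := S.complement_centralizer hx
  refine ⟨K, hKn, ?_, ?_⟩
  · rw [← hcpl.index_eq_card]
    exact Q.not_dvd_index
  · rw [hcpl.symm.index_eq_card, S.card_sylow_centralizer hx Q]
    norm_num

theorem out_const (hM : IsPModular 3 M) {x y : G} (hx : Out P z x) (hc : Commute x y)
    (hy : ¬ 3 ∣ orderOf y) {χ : IrrCharacter G} (hχ : χ ∈ principalBlock M G) :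
    (χ : G → ℂ) (x * y) = (χ : G → ℂ) x :=
  AbPrincipal.section_const hM (S.exists_order hx) (S.complement_centralizer hx) hχ hc hy

theorem out_sq (hM : IsPModular 3 M) {x : G} (hx : Out P z x) : ker M x x = 9 := by
  haveI : Fact (Nat.Prime 3) := ⟨Nat.prime_three⟩
  obtain ⟨K, hKn, hK, hidx⟩ := S.exists_complement hx
  rw [ker, FewChars.column_sq hM (S.exists_order hx) (isCentr_singleton x) hK hidx]
  norm_num

/-- For even inertial index the outside columns are rational integers. -/
theorem out_int (he : Even (eidx P)) {x : G} (hx : Out P z x) (χ : IrrCharacter G) :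
    ∃ c : ℤ, (χ : G → ℂ) x = c := by
  refine rational_int_of_invariant (isCharacter_of_irr χ.2) x fun m hm => ?_
  have h3 : ¬ 3 ∣ m := fun h => by
    have hd : 3 ∣ Nat.card G := by
      have h2 : Nat.card (P : Subgroup G) ∣ Nat.card G := card_subgroup_dvd_card _
      rw [S.card] at h2
      omega
    exact absurd (Nat.eq_one_of_dvd_coprimes hm h hd) (by norm_num)
  rw [← Nat.div_add_mod m 3, pow_add, pow_mul, S.exp x hx.1, one_pow, one_mul]
  rcases (show m % 3 = 1 ∨ m % 3 = 2 by omega) with h | h <;> rw [h]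
  · rw [pow_one]
  · have h2 : x ^ 2 = x⁻¹ := eq_inv_of_mul_eq_one_left (by rw [← pow_succ, S.exp x hx.1])
    rw [h2]
    exact (classFun_eq_of_isConj (irr_isClassFun χ) (S.isConj_inv he hx)).symm

theorem le_H : (P : Subgroup G) ≤ centralizer ({z} : Set G) := fun y hy =>
  mem_centralizer_singleton_iff.2 (S.cent y hy).symm

/-- The setting inside the centraliser of `z`. -/
theorem toH : Setup (P.subtype S.le_H) (⟨z, S.le_H S.mem⟩ : centralizer ({z} : Set G)) := by
  set H := centralizer ({z} : Set G)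
  have hmem : ∀ v : H, v ∈ (P.subtype S.le_H : Subgroup H) ↔ (v : G) ∈ (P : Subgroup G) := fun v => by
    rw [Sylow.coe_subtype, mem_subgroupOf]
  have hzp : ∀ v : H, (v : G) ∈ zpowers z → v ∈ zpowers (⟨z, S.le_H S.mem⟩ : H) := by
    intro v hv
    obtain ⟨k, hk⟩ := mem_zpowers_iff.1 hv
    exact mem_zpowers_iff.2 ⟨k, Subtype.ext (by rw [Subgroup.coe_zpow]; exact hk)⟩
  refine ⟨?_, fun x hx => Subtype.ext ?_, (hmem _).2 S.mem, fun h => S.ne (congrArg Subtype.val h),
    fun y hy => Subtype.ext (S.cent y ((hmem y).1 hy)), fun v hv hc => ?_, fun a ha b hb => ?_,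
    fun n _ => Subtype.ext (mem_centralizer_singleton_iff.1 n.2)⟩
  · rw [Sylow.coe_subtype, Nat.card_congr (subgroupOfEquivOfLe S.le_H).toEquiv, S.card]
  · rw [Subgroup.coe_pow, OneMemClass.coe_one]
    exact S.exp x ((hmem x).1 hx)
  · refine hzp v (S.only v ((hmem v).1 hv) fun y hy => ?_)
    exact congrArg Subtype.val (hc ⟨y, S.le_H hy⟩ ((hmem _).2 hy))
  · refine hzp _ ?_
    push_cast
    exact S.comm a ((hmem a).1 ha) b ((hmem b).1 hb)

theorem out_toH {v : centralizer ({z} : Set G)}
    (hv : Out (P.subtype S.le_H) (⟨z, S.le_H S.mem⟩ : centralizer ({z} : Set G)) v) :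
    Out P z v := by
  refine ⟨?_, fun h => hv.2 ?_⟩
  · have := hv.1
    rwa [Sylow.coe_subtype, mem_subgroupOf] at this
  · obtain ⟨k, hk⟩ := mem_zpowers_iff.1 h
    exact mem_zpowers_iff.2 ⟨k, Subtype.ext (by rw [Subgroup.coe_zpow]; exact hk)⟩

end Setup

section equality

variable {P : Sylow 3 G} {z : G} [Fintype (centralizer ({z} : Set G))]

/-- The values at central elements. -/
theorem central_unit {K : Type u} [Group K] [Fintype K] {w : K} (hw : w ∈ Subgroup.center K)
    (ψ : IrrCharacter K) :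
    (ψ : K → ℂ) w / (ψ : K → ℂ) 1 * conj ((ψ : K → ℂ) w / (ψ : K → ℂ) 1) = 1 := by
  have h := central_value_mul hw ψ w⁻¹
  rw [mul_inv_cancel, irr_inv] at h
  rw [map_div₀, irr_one_conj]
  have h1 : (ψ : K → ℂ) 1 ≠ 0 := irr_ne_zero ψ.2
  rw [mul_div, ← h, div_self h1]

theorem ker_eq (hM : IsPModular 3 M) (S : Setup P z) (h h' : centralizer ({z} : Set G))
    (hh : 3 ∣ orderOf h) (hh' : 3 ∣ orderOf h') :
    ker M (h : G) (h' : G) = ker M h h' := by
  set zH : (centralizer ({z} : Set G)) := ⟨z, S.le_H S.mem⟩ with hzH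
  have SH := S.toH
  obtain ⟨u, y, rfl, hc, hu1, hu, hy⟩ := exists_part hM hh
  obtain ⟨u', y', rfl, hc', hu1', hu', hy'⟩ := exists_part hM hh'
  have huG : ∃ k : ℕ, orderOf (u : G) = 3 ^ k := by rwa [Subgroup.orderOf_coe]
  have huG' : ∃ k : ℕ, orderOf (u' : G) = 3 ^ k := by rwa [Subgroup.orderOf_coe]
  have hyG : ¬ 3 ∣ orderOf (y : G) := by rwa [Subgroup.orderOf_coe]
  have hyG' : ¬ 3 ∣ orderOf (y' : G) := by rwa [Subgroup.orderOf_coe]
  have hcG : Commute (u : G) (y : G) := hc.map (centralizer ({z} : Set G)).subtype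
  have hcG' : Commute (u' : G) (y' : G) := hc'.map (centralizer ({z} : Set G)).subtype
  by_cases hconj : IsConj (u : G) (u' : G)
  swap
  · rw [ker_sections hM (g := ((u * y : (centralizer ({z} : Set G))) : G)) (h := ((u' * y' : (centralizer ({z} : Set G))) : G)) (x := (u : G))
      (y := (u' : G)) ⟨y, rfl, hcG, huG, hyG⟩ ⟨y', rfl, hcG', huG', hyG'⟩ hconj,
      ker_sections hM (g := u * y) (h := u' * y') ⟨y, rfl, hc, hu, hy⟩ ⟨y', rfl, hc', hu', hy'⟩
      (fun e => hconj ((centralizer ({z} : Set G)).subtype.map_isConj e))]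
  have hzc : zH ∈ Subgroup.center (centralizer ({z} : Set G)) := Subgroup.mem_center_iff.2 fun g =>
    Subtype.ext (mem_centralizer_singleton_iff.1 g.2)
  have hzp : ∀ v : (centralizer ({z} : Set G)), v ∈ zpowers zH → (v : G) ∈ zpowers z := by
    intro v hv
    obtain ⟨k, hk⟩ := mem_zpowers_iff.1 hv
    exact mem_zpowers_iff.2 ⟨k, by rw [← hk, Subgroup.coe_zpow]⟩
  by_cases hcen : u ∈ zpowers zH
  · -- a central section
    have hu'' : u' = u := by
      have hucases := mem_zpowers_cases SH.z_pow hcen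
      rcases SH.elt_cases hu' hu1' with hz | hz | ⟨v, hv, hz⟩
      · have e := (isConj_comm.1 hz).eq_of_left_mem_center hzc
        rcases hucases with rfl | rfl | rfl
        · exact absurd rfl hu1
        · exact e.symm
        · exact absurd (isConj_comm.1 (by simpa [← e] using hconj)) S.not_isConj_inv
      · have e := (isConj_comm.1 hz).eq_of_left_mem_center (inv_mem hzc)
        rcases hucases with rfl | rfl | rfl
        · exact absurd rfl hu1
        · exact absurd (by simpa [← e] using hconj) S.not_isConj_inv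
        · exact e.symm
      · exact absurd (((centralizer ({z} : Set G)).subtype.map_isConj hz).symm.trans hconj.symm)
          (S.not_isConj_out (S.out_toH hv) (hzp u hcen))
    subst hu''
    have hcenu : u' ∈ Subgroup.center (centralizer ({z} : Set G)) := (Subgroup.zpowers_le.2 hzc) hcen
    have hC : IsCentr (u' : G) (centralizer ({z} : Set G)) := by
      intro g
      rw [mem_centralizer_singleton_iff]
      have huz := hzp _ hcen
      constructor
      · intro hg
        obtain ⟨k, hk⟩ := mem_zpowers_iff.1 huz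
        rw [← hk]
        exact (show Commute g z from hg).zpow_right k
      · intro hg
        rcases mem_zpowers_cases S.z_pow huz with e | e | e <;> rw [e] at hg
        · exact absurd (Subtype.ext e) hu1
        · exact hg
        · exact (inv_inv z) ▸ hg.inv_right
    refine Eq.trans (sum_sq_section hM hC huG principalBlock_isPBlock hy hy') ?_
    rw [overBlocks_principal hM hC huG]
    refine Finset.sum_congr rfl fun ψ _ => ?_
    rw [central_value_mul hcenu, central_value_mul hcenu, map_mul]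
    linear_combination (-((ψ : (centralizer ({z} : Set G)) → ℂ) y * conj ((ψ : (centralizer ({z} : Set G)) → ℂ) y'))) * central_unit hcenu ψ
  · -- an outside section
    have key : ∀ w : (centralizer ({z} : Set G)), (∃ k : ℕ, orderOf w = 3 ^ k) → w ≠ 1 → IsConj (u : G) (w : G) →
        ∃ v, Out (P.subtype S.le_H) zH v ∧ IsConj w v := by
      intro w hw hw1 huw
      rcases SH.elt_cases hu hu1 with e | e | ⟨v₀, hv₀, e₀⟩
      · exact absurd ((isConj_comm.1 e).eq_of_left_mem_center hzc ▸ mem_zpowers zH) hcen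
      · exact absurd ((isConj_comm.1 e).eq_of_left_mem_center (inv_mem hzc) ▸
          inv_mem (mem_zpowers zH)) hcen
      rcases SH.elt_cases hw hw1 with hz | hz | hz
      · exact absurd (((centralizer ({z} : Set G)).subtype.map_isConj e₀).symm.trans (huw.trans ((centralizer ({z} : Set G)).subtype.map_isConj hz)))
          (S.not_isConj_out (S.out_toH hv₀) (mem_zpowers z))
      · exact absurd (((centralizer ({z} : Set G)).subtype.map_isConj e₀).symm.trans (huw.trans ((centralizer ({z} : Set G)).subtype.map_isConj hz)))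
          (S.not_isConj_out (S.out_toH hv₀) (inv_mem (mem_zpowers z)))
      · exact hz
    obtain ⟨v, hv, huv⟩ := key u hu hu1 (IsConj.refl _)
    obtain ⟨v', hv', huv'⟩ := key u' hu' hu1' hconj
    have hvG := S.out_toH hv
    have hvv : IsConj (v : G) (v' : G) :=
      (((centralizer ({z} : Set G)).subtype.map_isConj huv).symm.trans hconj).trans ((centralizer ({z} : Set G)).subtype.map_isConj huv')
    have hvH : IsConj v v' := by
      obtain ⟨g, hg⟩ := isConj_iff.1 hvv
      obtain ⟨c, hc1, hc2⟩ := S.fusion hvG (g := g) (by rw [hg]; exact (S.out_toH hv').1)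
      exact isConj_iff.2 ⟨⟨c, mem_centralizer_singleton_iff.2 hc1⟩, Subtype.ext (hc2.trans hg)⟩
    -- values on the sections
    have valG : ∀ (w q : (centralizer ({z} : Set G))) (_ : IsConj w v) (_ : Commute w q) (_ : ¬ 3 ∣ orderOf q)
        (χ : IrrCharacter G), χ ∈ principalBlock M G →
        (χ : G → ℂ) ((w * q : (centralizer ({z} : Set G))) : G) = (χ : G → ℂ) (v : G) := by
      intro w q hwv hwq hq χ hχ
      obtain ⟨c, hc⟩ := isConj_iff.1 hwv
      have e1 : (χ : G → ℂ) ((w * q : (centralizer ({z} : Set G))) : G) = (χ : G → ℂ) (((c * (w * q) * c⁻¹ : (centralizer ({z} : Set G)))) : G) := by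
        push_cast
        exact (irr_isClassFun χ _ _).symm
      rw [e1, show c * (w * q) * c⁻¹ = v * (c * q * c⁻¹) by rw [← hc]; group]
      push_cast
      refine S.out_const hM hvG ?_ ?_ hχ
      · have := (hwq.map (MulAut.conj c).toMonoidHom).map (centralizer ({z} : Set G)).subtype
        simpa [hc.symm, mul_assoc] using this
      · rw [conj_orderOf, Subgroup.orderOf_coe]; exact hq
    have valH : ∀ (w q : (centralizer ({z} : Set G))) (_ : IsConj w v) (_ : Commute w q) (_ : ¬ 3 ∣ orderOf q)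
        (ψ : IrrCharacter (centralizer ({z} : Set G))), ψ ∈ principalBlock M (centralizer ({z} : Set G)) →
        (ψ : (centralizer ({z} : Set G)) → ℂ) (w * q) = (ψ : (centralizer ({z} : Set G)) → ℂ) v := by
      intro w q hwv hwq hq ψ hψ
      obtain ⟨c, hc⟩ := isConj_iff.1 hwv
      rw [← irr_isClassFun ψ (w * q) c, show c * (w * q) * c⁻¹ = v * (c * q * c⁻¹) by rw [← hc]; group]
      refine SH.out_const hM hv ?_ ?_ hψ
      · have := hwq.map (MulAut.conj c).toMonoidHom
        simpa [hc.symm, mul_assoc] using this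
      · rw [conj_orderOf]; exact hq
    have huv'' : IsConj u' v := huv'.trans hvH.symm
    have eG : ker M ((u * y : (centralizer ({z} : Set G))) : G) ((u' * y' : (centralizer ({z} : Set G))) : G) = ker M (v : G) (v : G) :=
      Finset.sum_congr rfl fun χ hχ => by
        rw [valG u y huv hc hy χ (mem_bset.1 hχ), valG u' y' huv'' hc' hy' χ (mem_bset.1 hχ)]
    have eH : ker M (u * y) (u' * y') = ker M v v :=
      Finset.sum_congr rfl fun ψ hψ => by
        rw [valH u y huv hc hy ψ (mem_bset.1 hψ), valH u' y' huv'' hc' hy' ψ (mem_bset.1 hψ)]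
    rw [eG, S.out_sq hM hvG]
    exact (eH.trans (SH.out_sq hM hv)).symm

end equality

end CfsgLib.Blocks.ThreeExtra
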