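import Cfsg.Agent.Lib.Blocks.ThreeExtra.HBlock
import Cfsg.Agent.Lib.Blocks.ThreeExtra.Combine

/-!
# The invariants of the block when outside elements are conjugate to their inverses
-/

namespace CfsgLib.Blocks.ThreeExtra

open Cfsg Subgroup CfsgLib.CharTheory CfsgLib.Blocks
open scoped ComplexConjugate

set_option linter.unusedSectionVars false
set_option linter.style.haveILetI false

universe u v

/-- The centraliser of `z`. -/
abbrev Hz {G : Type u} [Group G] (z : G) : Subgroup G := centralizer ({z} : Set G)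

section comb

variable {K : Type u} [Group K] [Fintype K] {M : Ideal AlgInt}

/-- An integral combination of the block, as a function. -/
noncomputable def fB (M : Ideal AlgInt) (a : IrrCharacter K → ℤ) (h : K) : ℂ :=
  ∑ ψ ∈ bset (principalBlock M K), (a ψ : ℂ) * (ψ : K → ℂ) h

theorem inner_fB (F : K → ℂ) (a : IrrCharacter K → ℤ) :
    classInner F (fB M a) =
      ∑ ψ ∈ bset (principalBlock M K), (a ψ : ℂ) * classInner F (ψ : K → ℂ) := by
  rw [show fB M a = ∑ ψ ∈ bset (principalBlock M K), (a ψ : ℂ) • (ψ : K → ℂ) by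
    funext h; simp [fB], classInner_sum_right]
  exact Finset.sum_congr rfl fun ψ _ => by rw [classInner_smul_right, map_intCast]

theorem inner_irr_fB (a : IrrCharacter K → ℤ) {ψ : IrrCharacter K}
    (hψ : ψ ∈ principalBlock M K) : classInner (ψ : K → ℂ) (fB M a) = a ψ := by
  rw [inner_fB, Finset.sum_eq_single_of_mem ψ (mem_bset.2 hψ) (fun φ _ hne => by
    rw [classInner_irr_ne ψ.2 φ.2 (fun e => hne (Subtype.ext e.symm)), mul_zero]),
    classInner_irr_self ψ.2, mul_one]

theorem pair_sum {α : Type*} (s : Finset α) (Φ : α → K → ℂ) (f g : K → ℂ) :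
    ∑ χ ∈ s, classInner (Φ χ) f * conj (classInner (Φ χ) g) =
      (Nat.card K : ℂ)⁻¹ * (Nat.card K : ℂ)⁻¹ *
        ∑ h, ∑ h', conj (f h) * g h' * ∑ χ ∈ s, Φ χ h * conj (Φ χ h') := by
  simp only [classInner, map_mul, map_inv₀, map_natCast, map_sum, Complex.conj_conj,
    Finset.mul_sum, Finset.sum_mul]
  conv_rhs => enter [2, h]; rw [Finset.sum_comm]
  rw [Finset.sum_comm (s := (Finset.univ : Finset K)) (t := s)]
  refine Finset.sum_congr rfl fun χ _ => ?_
  rw [Finset.sum_comm]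
  exact Finset.sum_congr rfl fun h _ => Finset.sum_congr rfl fun h' _ => by ring

theorem col_sum {α : Type*} (s : Finset α) (Φ : α → K → ℂ) (v : α → ℂ) (f : K → ℂ) :
    ∑ χ ∈ s, classInner (Φ χ) f * v χ =
      (Nat.card K : ℂ)⁻¹ * ∑ h, conj (f h) * ∑ χ ∈ s, Φ χ h * v χ := by
  simp only [classInner, Finset.mul_sum, Finset.sum_mul]
  rw [Finset.sum_comm]
  exact Finset.sum_congr rfl fun h _ => Finset.sum_congr rfl fun χ _ => by ring

theorem Flip.sub {j : ℕ} (F : Flip K j) (H : Subgroup K) : Flip H j :=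
  ⟨F.coprime.coprime_dvd_right (card_subgroup_dvd_card H),
    fun y hy => Subtype.ext (by
      rw [Subgroup.coe_pow]; exact F.reg y (by rwa [Subgroup.orderOf_coe])),
    fun y hy => Subtype.ext (by
      rw [Subgroup.coe_pow, Subgroup.coe_inv]
      exact F.inv y (by rw [← Subgroup.coe_pow, hy, Subgroup.coe_one])),
    fun y => Subtype.ext (by simp only [Subgroup.coe_pow]; exact F.invol y)⟩

end comb

variable {G : Type u} [Group G] [Fintype G] {M : Ideal AlgInt}
variable {P : Sylow 3 G} {z : G} [Fintype (Hz z)] {ι : Type v} [Fintype ι] {x : ι → G}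
  (S : Setup P z) (hx : Reps P z x)

include S

/-- The outside elements as elements of the centraliser. -/
theorem out_of_toH {v : Hz z} (hv : Out P z (v : G)) :
    Out (P.subtype S.le_H) (⟨z, S.le_H S.mem⟩ : Hz z) v := by
  refine ⟨?_, fun h => hv.2 ?_⟩
  · rw [Sylow.coe_subtype, mem_subgroupOf]; exact hv.1
  · obtain ⟨k, hk⟩ := mem_zpowers_iff.1 h
    exact mem_zpowers_iff.2 ⟨k, by rw [← hk, Subgroup.coe_zpow]⟩

include hx

/-- Conjugacy in the centraliser of an outside element to a representative. -/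
theorem reps_toH : Reps (P.subtype S.le_H) (⟨z, S.le_H S.mem⟩ : Hz z)
    (fun r => (⟨x r, S.le_H (hx.out r).1⟩ : Hz z)) := by
  have key : ∀ u v : Hz z, Out P z (u : G) → (v : G) ∈ (P : Subgroup G) →
      IsConj (u : G) (v : G) → IsConj u v := by
    intro u v hu hv h
    obtain ⟨g, hg⟩ := isConj_iff.1 h
    obtain ⟨c, hc1, hc2⟩ := S.fusion hu (g := g) (by rw [hg]; exact hv)
    exact isConj_iff.2 ⟨⟨c, mem_centralizer_singleton_iff.2 hc1⟩, Subtype.ext (hc2.trans hg)⟩
  refine ⟨fun r => out_of_toH S (hx.out r), fun u hu => ?_, fun r s h => ?_, fun u hu => ?_⟩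
  · obtain ⟨r, hr⟩ := hx.cover _ (S.out_toH hu)
    exact ⟨r, key u _ (S.out_toH hu) (hx.out r).1 hr⟩
  · exact hx.sep r s ((Hz z).subtype.map_isConj h)
  · exact key u u⁻¹ (S.out_toH hu) (inv_mem (S.out_toH hu).1) (hx.inv _ (S.out_toH hu))

omit hx

theorem z_center : (⟨z, S.le_H S.mem⟩ : Hz z) ∈ Subgroup.center (Hz z) :=
  Subgroup.mem_center_iff.2 fun g => Subtype.ext (mem_centralizer_singleton_iff.1 g.2)

variable {s : IrrCharacter (Hz z) → IrrCharacter G → ℤ}
  (hs : ∀ ψ χ, classInner (fun h : Hz z => (χ : IrrCharacter G).1 h) (ψ : IrrCharacter (Hz z)).1 =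
    (s ψ χ : ℂ))

include hs

/-- The image of a combination. -/
theorem t_inner (a : IrrCharacter (Hz z) → ℤ) (χ : IrrCharacter G) :
    ((∑ ψ ∈ bset (principalBlock M (Hz z)), a ψ * s ψ χ : ℤ) : ℂ) =
      classInner (fun h : Hz z => (χ : G → ℂ) h) (fB M a) := by
  rw [inner_fB]
  push_cast
  exact Finset.sum_congr rfl fun ψ _ => by rw [hs]

/-- Combinations vanishing on regular elements are mapped isometrically. -/
theorem t_dot (hM : IsPModular 3 M) {a b : IrrCharacter (Hz z) → ℤ}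
    (ha : ∀ y ∈ regs (Hz z), fB M a y = 0) (hb : ∀ y ∈ regs (Hz z), fB M b y = 0) :
    ∑ χ ∈ bset (principalBlock M G), (∑ ψ ∈ bset (principalBlock M (Hz z)), a ψ * s ψ χ) *
      (∑ ψ ∈ bset (principalBlock M (Hz z)), b ψ * s ψ χ) =
      ∑ ψ ∈ bset (principalBlock M (Hz z)), a ψ * b ψ := by
  have h1 : ((∑ χ ∈ bset (principalBlock M G), (∑ ψ ∈ bset (principalBlock M (Hz z)), a ψ * s ψ χ) *
      (∑ ψ ∈ bset (principalBlock M (Hz z)), b ψ * s ψ χ) : ℤ) : ℂ) =
      ∑ χ ∈ bset (principalBlock M G), classInner (fun h : Hz z => (χ : G → ℂ) h) (fB M a) *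
        conj (classInner (fun h : Hz z => (χ : G → ℂ) h) (fB M b)) := by
    rw [Int.cast_sum]
    exact Finset.sum_congr rfl fun χ _ => by
      rw [Int.cast_mul, t_inner S hs, ← t_inner S hs b, map_intCast]
  have h2 : ((∑ ψ ∈ bset (principalBlock M (Hz z)), a ψ * b ψ : ℤ) : ℂ) =
      ∑ ψ ∈ bset (principalBlock M (Hz z)), classInner (ψ : Hz z → ℂ) (fB M a) *
        conj (classInner (ψ : Hz z → ℂ) (fB M b)) := by
    rw [Int.cast_sum]
    exact Finset.sum_congr rfl fun ψ hψ => by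
      rw [inner_irr_fB _ (mem_bset.1 hψ), inner_irr_fB _ (mem_bset.1 hψ), map_intCast, Int.cast_mul]
  have h3 : ((∑ χ ∈ bset (principalBlock M G), (∑ ψ ∈ bset (principalBlock M (Hz z)), a ψ * s ψ χ) *
      (∑ ψ ∈ bset (principalBlock M (Hz z)), b ψ * s ψ χ) : ℤ) : ℂ) =
      ((∑ ψ ∈ bset (principalBlock M (Hz z)), a ψ * b ψ : ℤ) : ℂ) := by
    rw [h1, h2, pair_sum, pair_sum]
    congr 1
    refine Finset.sum_congr rfl fun h _ => Finset.sum_congr rfl fun h' _ => ?_
    by_cases e : 3 ∣ orderOf h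
    · by_cases e' : 3 ∣ orderOf h'
      · exact congrArg _ (ker_eq hM S h h' e e')
      · rw [hb h' (mem_regs.2 e'), mul_zero, zero_mul, zero_mul]
    · rw [ha h (mem_regs.2 e), map_zero, zero_mul, zero_mul, zero_mul]
  exact_mod_cast h3

include hx

/-- The values of the image at outside elements. -/
theorem t_val (hM : IsPModular 3 M) {a : IrrCharacter (Hz z) → ℤ}
    (ha : ∀ y ∈ regs (Hz z), fB M a y = 0) (r : ι) :
    ∑ χ ∈ bset (principalBlock M G), ((∑ ψ ∈ bset (principalBlock M (Hz z)), a ψ * s ψ χ : ℤ) : ℂ) *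
      conj ((χ : G → ℂ) (x r)) =
      ∑ ψ ∈ bset (principalBlock M (Hz z)), (a ψ : ℂ) *
        conj ((ψ : Hz z → ℂ) ⟨x r, S.le_H (hx.out r).1⟩) := by
  set xr : Hz z := ⟨x r, S.le_H (hx.out r).1⟩ with hxr
  have e1 : ∀ ψ ∈ bset (principalBlock M (Hz z)), (a ψ : ℂ) * conj ((ψ : Hz z → ℂ) xr) =
      classInner (ψ : Hz z → ℂ) (fB M a) * conj ((ψ : Hz z → ℂ) xr) := fun ψ hψ => by
    rw [inner_irr_fB _ (mem_bset.1 hψ)]
  rw [Finset.sum_congr rfl e1, Finset.sum_congr rfl (fun χ _ => by rw [t_inner S hs]), col_sum,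
    col_sum]
  congr 1
  refine Finset.sum_congr rfl fun h _ => ?_
  by_cases e : 3 ∣ orderOf h
  · refine congrArg _ (ker_eq hM S h xr e ?_)
    obtain ⟨k, hk⟩ := S.exists_order (hx.out r)
    rw [hxr, ← Subgroup.orderOf_coe, hk]
    refine dvd_pow_self 3 fun h0 => S.out_ne_one (hx.out r) ?_
    rw [← orderOf_eq_one_iff, hk, h0, pow_zero]
  · rw [ha h (mem_regs.2 e), map_zero, zero_mul, zero_mul]

/-- The restriction keeps the values at outside elements. -/
theorem res_val (hM : IsPModular 3 M) {χ : IrrCharacter G} (hχ : χ ∈ principalBlock M G) (r : ι) :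
    ∑ ψ ∈ bset (principalBlock M (Hz z)), (s ψ χ : ℂ) *
      (ψ : Hz z → ℂ) ⟨x r, S.le_H (hx.out r).1⟩ = (χ : G → ℂ) (x r) := by
  classical
  have SH := S.toH
  set xr : Hz z := ⟨x r, S.le_H (hx.out r).1⟩ with hxr
  have hout : Out (P.subtype S.le_H) (⟨z, S.le_H S.mem⟩ : Hz z) xr := out_of_toH S (hx.out r)
  have hsum : ∀ F : Hz z → ℂ, ∑ ψ ∈ bset (principalBlock M (Hz z)),
      classInner F (ψ : Hz z → ℂ) * (ψ : Hz z → ℂ) xr =
      (Nat.card (Hz z) : ℂ)⁻¹ * ∑ h, F h * ker M xr h := by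
    intro F
    simp only [classInner, ker, Finset.mul_sum, Finset.sum_mul]
    rw [Finset.sum_comm]
    exact Finset.sum_congr rfl fun h _ => Finset.sum_congr rfl fun ψ _ => by ring
  have hconst : ∀ h : Hz z, (χ : G → ℂ) h * ker M xr h = (χ : G → ℂ) (x r) * ker M xr h := by
    intro h
    by_cases e : 3 ∣ orderOf h
    · obtain ⟨u, y, rfl, hc, hu1, hu, hy⟩ := exists_part hM e
      by_cases hconj : IsConj xr u
      · obtain ⟨c, hcc⟩ := isConj_iff.1 hconj.symm
        congr 1
        have e1 : (χ : G → ℂ) ((u * y : Hz z) : G) =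
            (χ : G → ℂ) ((c * (u * y) * c⁻¹ : Hz z) : G) := by
          push_cast
          exact (irr_isClassFun χ _ _).symm
        rw [e1, show c * (u * y) * c⁻¹ = xr * (c * y * c⁻¹) by rw [← hcc]; group]
        push_cast
        refine S.out_const hM (hx.out r) ?_ ?_ hχ
        · have := (hc.map (MulAut.conj c).toMonoidHom).map (Hz z).subtype
          simpa [hcc, mul_assoc] using this
        · rw [conj_orderOf, Subgroup.orderOf_coe]; exact hy
      · rw [ker_sections hM (x := xr) (y := u)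
          ⟨1, mul_one _, Commute.one_right _, SH.exists_order hout, by rw [orderOf_one]; norm_num⟩
          ⟨y, rfl, hc, hu, hy⟩ hconj, mul_zero, mul_zero]
    · have h0 := ker_reg (M := M) hM (g := h) (h := xr) e (by
        obtain ⟨k, hk⟩ := SH.exists_order hout
        rw [hk]
        refine dvd_pow_self 3 fun h0 => SH.out_ne_one hout ?_
        rw [← orderOf_eq_one_iff, hk, h0, pow_zero])
      rw [← ker_conj_irr, h0, map_zero, mul_zero, mul_zero]
  have h1 : (Nat.card (Hz z) : ℂ)⁻¹ * ∑ h, ker M xr h = 1 := by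
    have h := hsum (oneIrr (Hz z) : Hz z → ℂ)
    rw [Finset.sum_eq_single_of_mem (oneIrr (Hz z)) (mem_bset.2 (oneIrr_mem hM)) (fun φ _ hne => by
      rw [classInner_irr_ne (oneIrr (Hz z)).2 φ.2 (fun e => hne (Subtype.ext e.symm)), zero_mul]),
      classInner_irr_self (oneIrr (Hz z)).2, one_mul] at h
    simpa [oneIrr] using h.symm
  simp only [← hs]
  rw [hsum, Finset.sum_congr rfl (fun h _ => hconst h), ← Finset.mul_sum, mul_left_comm, h1, mul_one]

omit hx

/-- The values on the sections of the powers of `z`. -/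
theorem z_section (hM : IsPModular 3 M) {χ : IrrCharacter G} (hχ : χ ∈ principalBlock M G)
    {v : Hz z} (hv : v ∈ zpowers (⟨z, S.le_H S.mem⟩ : Hz z)) (hv1 : v ≠ 1) {y : Hz z}
    (hy : ¬ 3 ∣ orderOf y) :
    (χ : G → ℂ) ((v * y : Hz z) : G) =
      ∑ ψ ∈ bset (principalBlock M (Hz z)), (s ψ χ : ℂ) * (ψ : Hz z → ℂ) (v * y) := by
  classical
  have hvc : v ∈ Subgroup.center (Hz z) := (Subgroup.zpowers_le.2 (z_center S)) hv
  have hvz : (v : G) ∈ zpowers z := by
    obtain ⟨k, hk⟩ := mem_zpowers_iff.1 hv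
    exact mem_zpowers_iff.2 ⟨k, by rw [← hk, Subgroup.coe_zpow]⟩
  have hC : IsCentr (v : G) (Hz z) := by
    intro g
    rw [mem_centralizer_singleton_iff]
    constructor
    · intro hg
      obtain ⟨k, hk⟩ := mem_zpowers_iff.1 hvz
      rw [← hk]
      exact (show Commute g z from hg).zpow_right k
    · intro hg
      rcases mem_zpowers_cases S.z_pow hvz with e | e | e <;> rw [e] at hg
      · exact absurd (Subtype.ext e) hv1
      · exact hg
      · exact (inv_inv z) ▸ hg.inv_right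
  have hvo : ∃ k : ℕ, orderOf (v : G) = 3 ^ k := by
    rcases mem_zpowers_cases S.z_pow hvz with e | e | e
    · exact absurd (Subtype.ext e) hv1
    · exact ⟨1, by rw [e, S.order_z, pow_one]⟩
    · exact ⟨1, by rw [e, orderOf_inv, S.order_z, pow_one]⟩
  have h := sec_eq_overBlocks hM hC hvo (principalBlock_isPBlock (M := M)) χ hy
  rw [overBlocks_principal hM hC hvo, ind_of_mem hχ, one_mul, blockPart_apply] at h
  rw [Subgroup.coe_mul, ← h]
  refine Finset.sum_congr rfl fun ψ _ => ?_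
  have hcoef : classInner (sec (v : G) (Hz z) (χ : G → ℂ)) (ψ : Hz z → ℂ) =
      (ψ : Hz z → ℂ) v / (ψ : Hz z → ℂ) 1 * (s ψ χ : ℂ) := by
    rw [← hs]
    simp only [classInner, Finset.mul_sum]
    refine Fintype.sum_equiv (Equiv.mulLeft v) _ _ fun c => ?_
    simp only [sec, Equiv.coe_mulLeft, Subgroup.coe_mul, central_value_mul hvc ψ c, map_mul]
    linear_combination (-((Nat.card (Hz z) : ℂ)⁻¹ *
      ((χ : G → ℂ) ((v : G) * (c : G)) * conj ((ψ : Hz z → ℂ) c)))) * central_unit hvc ψ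
  rw [hcoef, central_value_mul hvc ψ y]
  ring

end CfsgLib.Blocks.ThreeExtra
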