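import Cfsg.Agent.Lib.Blocks.ThreeExtra.Main
import Cfsg.Agent.Lib.Transfer
import Cfsg.Agent.Lib.CharTheory.FeitNilpotent

/-!
# The case of trivial inertial quotient
-/

namespace CfsgLib.Blocks.ThreeExtra

open Cfsg Subgroup CfsgLib.CharTheory CfsgLib.Blocks
open scoped ComplexConjugate Pointwise

set_option linter.unusedSectionVars false
set_option linter.style.haveILetI false

universe u v

variable {G : Type u} [Group G] [Fintype G] {M : Ideal AlgInt} {P : Sylow 3 G} {z : G}

/-- With trivial inertial quotient the Sylow subgroup controls its own fusion. -/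
theorem control (S : Setup P z) (he : eidx P = 1) {x g : G} (hx : x ∈ (P : Subgroup G))
    (hg : g * x * g⁻¹ ∈ (P : Subgroup G)) :
    ∃ a ∈ (P : Subgroup G), a * x * a⁻¹ = g * x * g⁻¹ := by
  by_cases hxz : x ∈ zpowers z
  · refine ⟨1, one_mem _, ?_⟩
    rcases mem_zpowers_cases S.z_pow hxz with rfl | rfl | rfl
    · simp
    · rw [S.weak hg]; simp
    · have e : g * z * g⁻¹ = z := S.weak (g := g) (by
        have := inv_mem hg
        rwa [show (g * z⁻¹ * g⁻¹)⁻¹ = g * z * g⁻¹ by group] at this)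
      rw [show g * z⁻¹ * g⁻¹ = (g * z * g⁻¹)⁻¹ by group, e]
      simp
  have hN : Subgroup.normalizer ((P : Subgroup G) : Set G) ≤ PC P := relIndex_eq_one.1 he
  obtain ⟨n, hn, hnx⟩ := S.conj_normalizer ⟨hx, hxz⟩ hg (isConj_iff.2 ⟨g, rfl⟩)
  have hle : centralizer ((P : Subgroup G) : Set G) ≤
      Subgroup.normalizer ((P : Subgroup G) : Set G) := le_sup_right.trans (PC_le P)
  have hmem : n ∈ ((P : Subgroup G) : Set G) * (centralizer ((P : Subgroup G) : Set G) : Set G) := by
    rw [← Subgroup.coe_mul_of_right_le_normalizer_left _ _ hle]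
    exact hN hn
  obtain ⟨a, ha, c, hc, rfl⟩ := Set.mem_mul.1 hmem
  refine ⟨a, ha, ?_⟩
  have hcx : c * x * c⁻¹ = x := by rw [← hc x hx, mul_inv_cancel_right]
  rw [← hnx]
  calc a * x * a⁻¹ = a * (c * x * c⁻¹) * a⁻¹ := by rw [hcx]
    _ = a * c * x * (a * c)⁻¹ := by group

/-- The invariants for trivial inertial quotient. -/
theorem invariants_one (S : Setup P z) (hM : IsPModular 3 M) (he : eidx P = 1) :
    Nat.card (principalBlock M G) = 11 ∧
      Nat.card {χ : IrrCharacter G // χ ∈ principalBlock M G ∧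
        blockHeight 3 (principalBlock M G) (χ : G → ℂ) = 0} = 9 ∧
      blockRank 3 (principalBlock M G) = 1 := by
  classical
  haveI : Fact (Nat.Prime 3) := ⟨Nat.prime_three⟩
  have hG : HasNormalPComplement 3 G :=
    Transfer.hasNormalPComplement_of_control P fun x hx g hg => control S he hx hg
  have hH : HasNormalPComplement 3 (Hz z) := by
    refine Transfer.hasNormalPComplement_of_control (P.subtype S.le_H) fun x hx g hg => ?_
    rw [Sylow.coe_subtype, mem_subgroupOf] at hx hg
    obtain ⟨a, ha, e⟩ := control S he (g := (g : G)) hx (by simpa using hg)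
    exact ⟨⟨a, S.le_H ha⟩, mem_subgroupOf.2 ha, Subtype.ext (by simpa using e)⟩
  have hl := AbPrincipal.blockRank_eq_one hM hG
  have hlz : AbPrincipal.lc 3 M z = 1 := AbPrincipal.blockRank_eq_one hM hH
  obtain ⟨X, hX, hcard, huniq⟩ := S.exists_classes
  rw [he, mul_one] at hcard
  have hk := card_block (M := M) S (x := fun r : X => (r : G)) (fun r => hX r r.2)
    (fun u hu => by
      obtain ⟨y, ⟨hy, hc⟩, -⟩ := huniq u hu
      exact ⟨⟨y, hy⟩, hc⟩)
    (fun r t h => Subtype.ext ((huniq r (hX r r.2)).unique ⟨r.2, IsConj.refl _⟩ ⟨t.2, h⟩)) hM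
  rw [hl, hlz, Fintype.card_coe, hcard] at hk
  obtain ⟨Q, N, hNn, hcpl⟩ := hG
  have hidx : N.index = 27 := by
    rw [hcpl.symm.index_eq_card, ← S.card]
    exact Nat.card_congr (Q.equiv P).toEquiv
  have hN3 : ¬ 3 ∣ Nat.card N := by
    rw [← hcpl.index_eq_card]
    exact Q.not_dvd_index
  have hB := principalBlock_of_complement (M := M) hM hN3 ⟨3, hidx⟩
  have hsum := sum_sq_kernel (G := G) N
  rw [← hB, hidx] at hsum
  set d : IrrCharacter G → ℕ := fun χ => charDegree (χ : G → ℂ) with hd
  set B := bset (principalBlock M G) with hBs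
  have hsum' : ∑ χ ∈ B, d χ * d χ = 27 := by
    have h2 : ((∑ χ ∈ B, d χ * d χ : ℕ) : ℂ) = (27 : ℕ) := by
      rw [Nat.cast_sum, ← hsum]
      exact Finset.sum_congr rfl fun χ _ => by rw [(charDegree_spec' χ.2).1, Nat.cast_mul]
    exact_mod_cast h2
  have hcases : ∀ χ ∈ B, d χ = 1 ∨ d χ = 3 := by
    intro χ hχ
    have hχ' := mem_bset.1 hχ
    rw [hB] at hχ'
    have hdvd : d χ ∣ 27 := hidx ▸ irr_degree_dvd_index N χ.2 hχ' (charDegree_spec' χ.2).1
    have hle : d χ * d χ ≤ 27 :=
      hsum' ▸ Finset.single_le_sum (f := fun χ => d χ * d χ) (fun _ _ => Nat.zero_le _) hχ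
    have hle' : d χ ≤ 5 := by nlinarith
    have hpos : 0 < d χ := (charDegree_spec' χ.2).2
    interval_cases hv : d χ <;> omega
  have hk' : B.card = 11 := by
    rw [hBs, ← Fintype.card_coe, ← Nat.card_eq_fintype_card,
      Nat.card_congr (Equiv.subtypeEquivRight (fun ψ => mem_bset) :
        {ψ // ψ ∈ bset (principalBlock M G)} ≃ {ψ // ψ ∈ principalBlock M G})]
    exact hk
  refine ⟨hk, ?_, hl⟩
  have hsplit : ∑ χ ∈ B, d χ * d χ = (B.filter fun χ => d χ = 1).card +
      9 * (B.filter fun χ => ¬ d χ = 1).card := by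
    rw [← Finset.sum_filter_add_sum_filter_not B (fun χ => d χ = 1),
      Finset.sum_congr rfl (s₁ := B.filter fun χ => d χ = 1) (g := fun _ => 1)
        (fun χ hχ => by rw [(Finset.mem_filter.1 hχ).2]),
      Finset.sum_congr rfl (s₁ := B.filter fun χ => ¬ d χ = 1) (g := fun _ => 9)
        (fun χ hχ => by
          rw [(hcases χ (Finset.mem_filter.1 hχ).1).resolve_left (Finset.mem_filter.1 hχ).2]),
      Finset.sum_const, Finset.sum_const, smul_eq_mul, smul_eq_mul, mul_one, mul_comm _ 9]
  have hcardsplit := Finset.card_filter_add_card_filter_not (s := B) (fun χ => d χ = 1)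
  have h9 : (B.filter fun χ => d χ = 1).card = 9 := by omega
  have hmin : minDv 3 (principalBlock M G) = 0 := by
    have h1 : dv 3 (oneIrr G : G → ℂ) = 0 := by
      rw [dv, show charDegree (oneIrr G : G → ℂ) = 1 by simp [charDegree, oneIrr],
        Nat.factorization_one]; rfl
    have h2 := minDv_le (p := 3) (oneIrr_mem hM (G := G))
    omega
  rw [← h9, ← Nat.card_eq_finsetCard]
  refine Nat.card_congr (Equiv.subtypeEquivRight fun χ => ?_)
  rw [Finset.mem_filter, hBs, mem_bset, blockHeight_eq, hmin, Nat.sub_zero, dv]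
  refine and_congr_right fun hχ => ?_
  rcases hcases χ (mem_bset.2 hχ) with e | e <;>
    simp only [hd] at e <;>
    simp [hd, e, Nat.factorization_one, Nat.prime_three.factorization]

end CfsgLib.Blocks.ThreeExtra
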